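import Cfsg.Agent.Lib.Core.Hall
import Cfsg.Agent.Lib.Transfer.Fusion
import Cfsg.Agent.Lib.OddLocal.Final.OddOrder
import Mathlib.GroupTheory.Transfer
import Mathlib.GroupTheory.Perm.Cycle.Type

/-!
# Hall subgroups of small even order

The reduction for `m = 12, 24, 60`: a finite group with Sylow 2-subgroups of order 4 or 8 is
solvable, or has a solvable 2-local of order divisible by 3 containing a Sylow 2-subgroup, or
has elementary Sylow 2-subgroups of order 8 on which the normaliser induces a fixed point free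
transitive group.
-/

set_option autoImplicit false

namespace CfsgLib.HallNumber

open Subgroup
open scoped Pointwise

universe u

variable {G : Type u} [Group G] [Finite G]

theorem solvable_odd {X : Type u} [Group X] [Finite X] (h : Odd (Nat.card X)) :
    Group.IsSolvable X :=
  CfsgLib.OddLocal.FTFinal.odd_solvable_all X h

theorem solvable_ext (N : Subgroup G) [N.Normal] (hN : Group.IsSolvable N)
    (hQ : Group.IsSolvable (G ⧸ N)) : Group.IsSolvable G :=
  (Group.isSolvable_iff_subgroup_quotient N).2 ⟨hN, hQ⟩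

/-- A group of order not divisible by four is solvable. -/
theorem solvable_of_not_four_dvd {X : Type u} [Group X] [Finite X] (h : ¬ 4 ∣ Nat.card X) :
    Group.IsSolvable X := by
  have : Fact (Nat.Prime 2) := ⟨Nat.prime_two⟩
  rcases Nat.even_or_odd (Nat.card X) with he | ho
  swap
  · exact solvable_odd ho
  obtain ⟨k, hk⟩ := he.two_dvd
  have hko : Odd k := Nat.odd_iff.2 (by omega)
  have hk0 : k ≠ 0 := fun e => by rw [e] at hko; exact absurd hko (by decide)
  have hmin : (Nat.card X).minFac = 2 := (Nat.minFac_eq_two_iff _).2 ⟨k, hk⟩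
  obtain ⟨P⟩ := (inferInstance : Nonempty (Sylow 2 X))
  have hP : Nat.card (P : Subgroup X) = 2 := by
    rw [P.card_eq_multiplicity, hk, Nat.factorization_mul two_ne_zero hk0, Finsupp.add_apply,
      Nat.prime_two.factorization_self,
      Nat.factorization_eq_zero_of_not_dvd (fun h2 => (Nat.not_even_iff_odd.2 hko) (even_iff_two_dvd.2 h2))]
    norm_num
  have hc : IsCyclic (P : Subgroup X) := isCyclic_of_prime_card hP
  have hcomp := IsCyclic.isComplement' hmin hc
  let K := (MonoidHom.transferSylow P (hc.normalizer_le_centralizer hmin)).ker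
  refine solvable_ext (G := X) K (solvable_odd ?_) (solvable_two ?_)
  · have h1 := hcomp.card_mul_card
    rw [hP, hk] at h1
    change Nat.card K * 2 = 2 * k at h1
    rwa [show Nat.card K = k by omega]
  · rw [← Subgroup.index_eq_card, hcomp.symm.index_eq_card, hP]
where
  solvable_two {Y : Type u} [Group Y] (h : Nat.card Y = 2) : Group.IsSolvable Y := by
    have := isCyclic_of_prime_card h
    let _ := IsCyclic.commGroup (α := Y)
    infer_instance

/-- A solvable subgroup of order divisible by `m` gives a subgroup of order `m`. -/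
theorem hall_of_solvable {m : ℕ} (hdvd : m ∣ Nat.card G) (hcop : m.Coprime (Nat.card G / m))
    (X : Subgroup G) (hX : Group.IsSolvable X) (hm : m ∣ Nat.card X) :
    ∃ H : Subgroup G, Nat.card H = m := by
  obtain ⟨k, hk⟩ := hm
  have hm0 : 0 < m := Nat.pos_of_ne_zero fun e => by simp [e, Nat.card_pos.ne'] at hdvd
  have hkd : k ∣ Nat.card G / m := by
    refine Nat.dvd_div_of_mul_dvd ?_
    rw [← hk]
    exact card_subgroup_dvd_card X
  obtain ⟨H, hH⟩ := CfsgLib.Core.exists_subgroup_card_eq hk (hcop.coprime_dvd_right hkd)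
  exact ⟨H.map X.subtype, by rw [card_map_of_injective X.subtype_injective, hH]⟩

/-- In a solvable group the answer is Hall's theorem. -/
theorem hall_of_solvable_top {m : ℕ} (hdvd : m ∣ Nat.card G) (hcop : m.Coprime (Nat.card G / m))
    (hG : Group.IsSolvable G) : ∃ H : Subgroup G, Nat.card H = m :=
  hall_of_solvable hdvd hcop ⊤ inferInstance (by rwa [card_top])

/-- The normaliser of a 2-subgroup of index not divisible by four is solvable. -/
theorem solvable_normalizer {Q : Subgroup G} (hQ : IsPGroup 2 Q) (h : ¬ 4 ∣ Q.index) :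
    Group.IsSolvable (normalizer (Q : Set G)) := by
  have : Fact (Nat.Prime 2) := ⟨Nat.prime_two⟩
  have := hQ.isNilpotent
  refine solvable_ext (Q.subgroupOf (normalizer (Q : Set G))) ?_ (solvable_of_not_four_dvd fun h4 => h ?_)
  · have : Group.IsSolvable Q := inferInstance
    exact Group.isSolvable_of_isSolvable_injective
      (f := (Subgroup.subgroupOfEquivOfLe (le_normalizer (H := Q))).toMonoidHom) (MulEquiv.injective _)
  · rw [← Subgroup.index_eq_card] at h4
    exact h4.trans (Subgroup.relIndex_dvd_index_of_le le_normalizer)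

/-- An odd order automorphism induced on `Q` has a power of prime order. -/
theorem exists_prime_action {Q : Subgroup G} {g : G} (hg : g ∈ normalizer (Q : Set G))
    (hne : ∃ x ∈ Q, g * x * g⁻¹ ≠ x) (hodd : Odd (orderOf g)) :
    ∃ (q : ℕ) (n : G) (F : Subgroup G), q.Prime ∧ Odd q ∧ q ∣ orderOf g ∧
      n ∈ normalizer (Q : Set G) ∧ F ≤ Q ∧ F ≠ Q ∧ Nat.card F ≡ Nat.card Q [MOD q] ∧
      (∀ x ∈ Q, x ∈ F ↔ n * x * n⁻¹ = x) ∧ (∀ x ∈ Q, g * x * g⁻¹ = x → x ∈ F) ∧
      (∀ x ∈ Q, x ∈ F ∨ Nat.card (Set.range fun k : ℕ => n ^ k * x * (n ^ k)⁻¹) = q) := by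
  classical
  set φ := Q.normalizerMonoidHom
  set α := φ ⟨g, hg⟩ with hα
  have happ : ∀ (u : normalizer (Q : Set G)) (x : Q), ((φ u x : Q) : G) = (u : G) * x * (u : G)⁻¹ :=
    fun u x => rfl
  have hα1 : α ≠ 1 := by
    obtain ⟨x, hx, hne⟩ := hne
    intro e
    refine hne ?_
    have := happ ⟨g, hg⟩ ⟨x, hx⟩
    rw [← hα, e] at this
    exact this.symm
  have hdvd : orderOf α ∣ orderOf g := by
    have := orderOf_map_dvd φ ⟨g, hg⟩
    rwa [← Subgroup.orderOf_coe] at this
  have ho1 : orderOf α ≠ 1 := fun e => hα1 (orderOf_eq_one_iff.1 e)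
  set q := (orderOf α).minFac
  have hq : q.Prime := Nat.minFac_prime ho1
  have hqα : q ∣ orderOf α := Nat.minFac_dvd _
  set j := orderOf α / q
  set β := α ^ j with hβ
  have hj0 : j ≠ 0 := by
    have := orderOf_pos α
    exact (Nat.div_pos (Nat.le_of_dvd this hqα) hq.pos).ne'
  have hβo : orderOf β = q := by
    rw [hβ, orderOf_pow_of_dvd hj0 (Nat.div_dvd_of_dvd hqα),
      Nat.div_div_self hqα (orderOf_pos α).ne']
  have hn : g ^ j ∈ normalizer (Q : Set G) := pow_mem hg j
  have hβn : β = φ ⟨g ^ j, hn⟩ := by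
    rw [hβ, hα, ← map_pow]; rfl
  let F : Subgroup G := Q ⊓ centralizer ({g ^ j} : Set G)
  have hfix : ∀ x : Q, β x = x ↔ (x : G) ∈ F := by
    intro x
    rw [Subtype.ext_iff, hβn, happ, mul_inv_eq_iff_eq_mul, mem_inf, mem_centralizer_singleton_iff]
    exact ⟨fun e => ⟨x.2, e.symm⟩, fun e => e.2.symm⟩
  have : Fact q.Prime := ⟨hq⟩
  have hpg : IsPGroup q (zpowers β) := IsPGroup.of_card (n := 1) (by rw [Nat.card_zpowers, hβo, pow_one])
  have hset : Nat.card (MulAction.fixedPoints (zpowers β) Q) = Nat.card F := by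
    refine Nat.card_congr
      { toFun := fun x => ⟨((x : Q) : G), (hfix x).1 (x.2 ⟨β, mem_zpowers β⟩)⟩
        invFun := fun x => ⟨⟨x, x.2.1⟩, ?_⟩
        left_inv := fun _ => rfl
        right_inv := fun _ => rfl }
    intro b
    have h1 : β ∈ MulAction.stabilizer (MulAut Q) (⟨(x : G), x.2.1⟩ : Q) := (hfix ⟨x, x.2.1⟩).2 x.2
    exact zpowers_le.2 h1 b.2
  refine ⟨q, g ^ j, F, hq, Odd.of_dvd_nat (Odd.of_dvd_nat hodd hdvd) hqα, hqα.trans hdvd, hn,
    inf_le_left, fun e => ?_, ?_, fun x hx => ?_, fun x hx e => ?_, fun x hx => ?_⟩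
  · have : β = 1 := MulEquiv.ext fun x => (hfix x).2 (by rw [e]; exact x.2)
    rw [this, orderOf_one] at hβo
    exact hq.ne_one hβo.symm
  · rw [← hset]
    exact (hpg.card_modEq_card_fixedPoints Q).symm
  · rw [← hfix ⟨x, hx⟩, Subtype.ext_iff, hβn, happ]
  · refine ⟨hx, mem_centralizer_singleton_iff.2 ?_⟩
    have hc : Commute x g := (mul_inv_eq_iff_eq_mul.1 e).symm
    exact (hc.pow_right j).eq
  · by_cases hxF : x ∈ F
    · exact Or.inl hxF
    refine Or.inr ?_
    set X : Q := ⟨x, hx⟩ with hXdef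
    have horb : Nat.card (MulAction.orbit (zpowers β) X) = q := by
      obtain ⟨a, ha⟩ := hpg.card_orbit X
      have := Fintype.ofFinite (zpowers β)
      have hle : q ^ a ≤ q := by
        have := Fintype.ofFinite (MulAction.orbit (zpowers β) X)
        have := Fintype.ofFinite (MulAction.stabilizer (zpowers β) X)
        rw [← ha]
        have := MulAction.card_orbit_mul_card_stabilizer_eq_card_group (zpowers β) X
        rw [← Nat.card_eq_fintype_card, ← Nat.card_eq_fintype_card, ← Nat.card_eq_fintype_card,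
          Nat.card_zpowers, hβo] at this
        exact Nat.le_of_dvd hq.pos ⟨_, this.symm⟩
      rcases a with _ | _ | a
      · exfalso
        rw [pow_zero, Nat.card_eq_one_iff_unique] at ha
        exact hxF ((hfix X).1 (congrArg Subtype.val (ha.1.elim
          ⟨(⟨β, mem_zpowers β⟩ : zpowers β) • X, MulAction.mem_orbit _ _⟩
          ⟨X, MulAction.mem_orbit_self _⟩)))
      · rw [ha, pow_one]
      · exfalso
        have h2 : q * q ≤ q ^ (a + 1 + 1) := by
          rw [← pow_two]; exact Nat.pow_le_pow_right hq.pos (by omega)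
        have := hq.two_le
        nlinarith
    rw [← horb]
    refine Nat.card_congr (Equiv.setCongr ?_) |>.trans
      (Nat.card_image_of_injective Subtype.val_injective (MulAction.orbit (zpowers β) X))
    ext y
    constructor
    · rintro ⟨k, rfl⟩
      refine ⟨((⟨β, mem_zpowers β⟩ : zpowers β) ^ k) • X, MulAction.mem_orbit _ _, ?_⟩
      show (((β ^ k : MulAut Q)) X : G) = _
      rw [hβn, ← map_pow, happ]
      rfl
    · rintro ⟨_, ⟨b, rfl⟩, rfl⟩
      obtain ⟨k, hk⟩ := (isOfFinOrder_of_finite β).mem_powers_iff_mem_zpowers.2 b.2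
      refine ⟨k, ?_⟩
      show _ = (((b : MulAut Q)) X : G)
      rw [← hk]
      show _ = (((β ^ k : MulAut Q)) X : G)
      rw [hβn, ← map_pow, happ]
      rfl

/-- The order of a Sylow `2`-subgroup when `m = 2 ^ t c` divides exactly. -/
theorem card_sylow_two (P : Sylow 2 G) {m t c : ℕ} (hm : m = 2 ^ t * c) (hc : Odd c)
    (hdvd : m ∣ Nat.card G) (hcop : m.Coprime (Nat.card G / m)) (ht : t ≠ 0 := by norm_num) :
    Nat.card (P : Subgroup G) = 2 ^ t := by
  rw [P.card_eq_multiplicity]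
  congr 1
  obtain ⟨k, hk⟩ := hdvd
  have hpos := Nat.card_pos (α := G)
  have hm0 : 0 < m := by rw [hm]; exact Nat.mul_pos (by positivity) hc.pos
  have hk0 : k ≠ 0 := fun e => by rw [e, mul_zero] at hk; omega
  rw [hk, Nat.mul_div_cancel_left _ hm0] at hcop
  rw [hk, hm, mul_assoc, Nat.factorization_mul (by positivity) (Nat.mul_ne_zero hc.pos.ne' hk0),
    Finsupp.add_apply, Nat.prime_two.factorization_pow, Finsupp.single_eq_same,
    Nat.factorization_eq_zero_of_not_dvd, add_zero]
  intro h2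
  rcases (Nat.Prime.dvd_mul Nat.prime_two).1 h2 with h | h
  · exact Nat.not_even_iff_odd.2 hc (even_iff_two_dvd.2 h)
  · have h' : 2 ∣ m := hm ▸ (dvd_pow_self 2 ht).mul_right c
    exact absurd (Nat.eq_one_of_dvd_coprimes hcop h' h) (by norm_num)

/-- The exceptional local configuration at a Sylow 2-subgroup of order eight. -/
def SevenAction (P : Sylow 2 G) : Prop :=
  Nat.card (P : Subgroup G) = 8 ∧ ¬ 3 ∣ Nat.card (normalizer ((P : Subgroup G) : Set G)) ∧
    (∀ x ∈ (P : Subgroup G), x * x = 1) ∧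
    ∀ x ∈ (P : Subgroup G), x ≠ 1 → ∀ y ∈ (P : Subgroup G), y ≠ 1 →
      ∃ n ∈ normalizer ((P : Subgroup G) : Set G), n * x * n⁻¹ = y

theorem fixed_count {c d q : ℕ} (hq : q.Prime) (hqo : Odd q) (hq3 : q ≠ 3)
    (hd : d = 1 ∨ d = 2 ∨ d = 4 ∨ d = 8) (hc : c ∣ d) (hne : c ≠ d) (hmod : c ≡ d [MOD q]) :
    c = 1 ∧ d = 8 ∧ q = 7 := by
  have hcd : c ≤ d := Nat.le_of_dvd (by omega) hc
  have hdvd : q ∣ d - c := (Nat.modEq_iff_dvd' hcd).1 hmod
  have hq7 : q ≤ 7 := (Nat.le_of_dvd (by omega) hdvd).trans (by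
    have : 1 ≤ c := Nat.pos_of_dvd_of_pos hc (by omega)
    omega)
  have hcd8 : c ≤ 8 := by omega
  have := hq.two_le
  rcases hd with rfl | rfl | rfl | rfl <;> interval_cases q <;> interval_cases c <;>
    revert hq hqo hq3 hc hne hdvd <;> decide

/-- The trichotomy. -/
theorem local_cases (P : Sylow 2 G) (hP : Nat.card (P : Subgroup G) = 4 ∨ Nat.card (P : Subgroup G) = 8) :
    Group.IsSolvable G ∨
      (∃ R : Subgroup G, R ≤ (P : Subgroup G) ∧ 4 ≤ Nat.card R ∧ Group.IsSolvable (normalizer (R : Set G)) ∧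
        3 * Nat.card (P : Subgroup G) ∣ Nat.card (normalizer (R : Set G))) ∨
      SevenAction P := by
  classical
  have : Fact (Nat.Prime 2) := ⟨Nat.prime_two⟩
  have hidx : ¬ 2 ∣ (P : Subgroup G).index := P.not_dvd_index
  by_cases hall : ∀ Q : Subgroup G, Q ≤ (P : Subgroup G) → ∀ g ∈ normalizer (Q : Set G),
      Nat.Coprime (orderOf g) 2 → g ∈ centralizer (Q : Set G)
  · left
    obtain ⟨N, hN, hc⟩ := (CfsgLib.Transfer.exists_complement_iff P).2
      (CfsgLib.Transfer.hasNormalPComplement_of_centralizes P hall)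
    have := P.2.isNilpotent
    refine solvable_ext N (solvable_odd (Nat.not_even_iff_odd.1 fun he => hidx ?_)) ?_
    · rw [hc.index_eq_card]; exact he.two_dvd
    · exact Group.isSolvable_of_surjective
        (f := (QuotientGroup.mk' N).comp (P : Subgroup G).subtype)
        fun y => by
          obtain ⟨z, rfl⟩ := QuotientGroup.mk'_surjective N y
          obtain ⟨⟨⟨a, ha⟩, ⟨b, hb⟩⟩, hab⟩ := hc.2 z
          refine ⟨⟨b, hb⟩, ?_⟩
          rw [← hab]
          simp [(QuotientGroup.eq_one_iff a).2 ha]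
  right
  push Not at hall
  obtain ⟨Q, hQP, g, hg, hco, hnc⟩ := hall
  have hgodd : Odd (orderOf g) := Nat.coprime_two_right.1 hco
  have hnc' : ∃ x ∈ Q, g * x * g⁻¹ ≠ x := by
    by_contra h
    push Not at h
    exact hnc (mem_centralizer_iff.2 fun x hx => (mul_inv_eq_iff_eq_mul.1 (h x hx)).symm)
  have hQ2 : IsPGroup 2 Q := P.2.to_le hQP
  have hQd : Nat.card Q ∣ Nat.card (P : Subgroup G) := card_dvd_of_le hQP
  have hQcases : Nat.card Q = 1 ∨ Nat.card Q = 2 ∨ Nat.card Q = 4 ∨ Nat.card Q = 8 := by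
    have h8 : Nat.card Q ∣ 2 ^ 3 := hQd.trans (by rcases hP with h | h <;> rw [h] <;> norm_num)
    obtain ⟨i, hi, h⟩ := (Nat.dvd_prime_pow Nat.prime_two).1 h8
    interval_cases i <;> simp [h]
  by_cases h3N : ∃ R : Subgroup G, R ≤ (P : Subgroup G) ∧ 4 ≤ Nat.card R ∧
      3 ∣ Nat.card (normalizer (R : Set G))
  · left
    obtain ⟨R, hRP, hR4, hR3⟩ := h3N
    refine ⟨R, hRP, hR4, solvable_normalizer (P.2.to_le hRP) fun h4 => hidx ?_, ?_⟩
    · have h := Subgroup.relIndex_mul_index hRP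
      have hr : R.relIndex (P : Subgroup G) ≤ 2 := by
        have h' := (R.subgroupOf (P : Subgroup G)).card_mul_index
        rw [Nat.card_congr (Subgroup.subgroupOfEquivOfLe hRP).toEquiv] at h'
        change Nat.card R * R.relIndex (P : Subgroup G) = _ at h'
        have := Nat.mul_le_mul_right (R.relIndex (P : Subgroup G)) hR4
        omega
      obtain ⟨w, hw⟩ := h4
      have hpos : R.index ≠ 0 := index_ne_zero_of_finite
      have hr0 : R.relIndex (P : Subgroup G) ≠ 0 := fun e => by rw [e, zero_mul] at h; omega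
      refine Nat.dvd_of_mod_eq_zero ?_
      have : R.relIndex (P : Subgroup G) = 1 ∨ R.relIndex (P : Subgroup G) = 2 := by omega
      rcases this with e | e <;> rw [e, hw] at h <;> omega
    · refine Nat.Coprime.mul_dvd_of_dvd_of_dvd ?_ hR3 (card_dvd_of_le ?_)
      · rcases hP with h | h <;> rw [h] <;> norm_num
      · have h' := (R.subgroupOf (P : Subgroup G)).card_mul_index
        rw [Nat.card_congr (Subgroup.subgroupOfEquivOfLe hRP).toEquiv] at h'
        have := Nat.mul_le_mul_right (R.subgroupOf (P : Subgroup G)).index hR4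
        have hn : (R.subgroupOf (P : Subgroup G)).Normal := by
          have hi0 : (R.subgroupOf (P : Subgroup G)).index ≠ 0 := index_ne_zero_of_finite
          by_cases h1 : (R.subgroupOf (P : Subgroup G)).index = 1
          · rw [index_eq_one.1 h1]; infer_instance
          · exact normal_of_index_eq_two (by omega)
        exact (normal_subgroupOf_iff_le_normalizer hRP).1 hn
  push Not at h3N
  right
  obtain ⟨q, n, F, hq, hqo, hqg, hn, hFQ, hFne, hmod, hfix, -, horb⟩ :=
    exists_prime_action hg hnc' hgodd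
  have hFd := card_dvd_of_le hFQ
  have hne : Nat.card F ≠ Nat.card Q := fun e => hFne (eq_of_le_of_card_ge hFQ e.ge)
  have hq3 : q ≠ 3 := by
    rintro rfl
    have h4 : 4 ≤ Nat.card Q := by
      have hle : Nat.card F ≤ Nat.card Q := Nat.le_of_dvd Nat.card_pos hFd
      have hd := (Nat.modEq_iff_dvd' hle).1 hmod
      have h1 : 1 ≤ Nat.card F := Nat.card_pos
      have := Nat.le_of_dvd (by omega) hd
      omega
    exact h3N Q hQP h4 (hqg.trans (by
      rw [← orderOf_mk g hg]; exact orderOf_dvd_natCard _))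
  obtain ⟨hF1, hQ8, rfl⟩ := fixed_count hq hqo hq3 hQcases hFd hne hmod
  have hP8 : Nat.card (P : Subgroup G) = 8 := by
    have := Nat.le_of_dvd Nat.card_pos hQd
    omega
  obtain rfl : Q = (P : Subgroup G) := eq_of_le_of_card_ge hQP (by rw [hQ8, hP8])
  have hFbot : F = ⊥ := eq_bot_of_card_eq F hF1
  have htrans : ∀ x ∈ (P : Subgroup G), x ≠ 1 → ∀ y ∈ (P : Subgroup G), y ≠ 1 →
      ∃ k : ℕ, n ^ k * x * (n ^ k)⁻¹ = y := by
    intro x hx hx1 y hy hy1
    have hc : Nat.card (Set.range fun k : ℕ => n ^ k * x * (n ^ k)⁻¹) = 7 :=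
      (horb x hx).resolve_left fun h => hx1 (by rwa [hFbot, mem_bot] at h)
    have hsub : (Set.range fun k : ℕ => n ^ k * x * (n ^ k)⁻¹) ⊆
        ((P : Subgroup G) : Set G) \ {1} := by
      rintro _ ⟨k, rfl⟩
      exact ⟨(mem_normalizer_iff.1 (pow_mem hn k) x).1 hx, fun h => hx1 (conj_eq_one_iff.1 h)⟩
    have heq := Set.eq_of_subset_of_ncard_le hsub (by
      rw [Set.ncard_sdiff (Set.singleton_subset_iff.2 (one_mem _)), Set.ncard_singleton,
        ← Nat.card_coe_set_eq (Set.range _), hc, ← Nat.card_coe_set_eq]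
      rw [show Nat.card ((P : Subgroup G) : Set G) = Nat.card (P : Subgroup G) from rfl, hP8])
    obtain ⟨k, hk⟩ := heq.symm.subset (show y ∈ ((P : Subgroup G) : Set G) \ {1} from ⟨hy, hy1⟩)
    exact ⟨k, hk⟩
  refine ⟨hP8, h3N _ le_rfl (by omega), fun x hx => ?_,
    fun x hx hx1 y hy hy1 => (htrans x hx hx1 y hy hy1).elim fun k hk => ⟨n ^ k, pow_mem hn k, hk⟩⟩
  rcases eq_or_ne x 1 with rfl | hx1
  · exact mul_one 1
  obtain ⟨⟨t, ht⟩, ht2⟩ := exists_prime_orderOf_dvd_card' (G := (P : Subgroup G)) 2 (by omega)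
  rw [orderOf_mk] at ht2
  have htne : t ≠ 1 := fun e => by rw [e, orderOf_one] at ht2; omega
  obtain ⟨k, hk⟩ := htrans t ht htne x hx hx1
  have htt : t * t = 1 := by rw [← pow_two, ← ht2, pow_orderOf_eq_one]
  rw [← hk, show n ^ k * t * (n ^ k)⁻¹ * (n ^ k * t * (n ^ k)⁻¹) = n ^ k * (t * t) * (n ^ k)⁻¹ by group,
    htt, mul_one, mul_inv_cancel]

/-- The fixed point free action of the normaliser in the exceptional configuration. -/
theorem SevenAction.fpf {P : Sylow 2 G} (h : SevenAction P) {n y : G}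
    (hn : n ∈ normalizer ((P : Subgroup G) : Set G)) (hy : y ∈ (P : Subgroup G)) (hy1 : y ≠ 1)
    (hc : n * y * n⁻¹ = y) : n ∈ centralizer ((P : Subgroup G) : Set G) := by
  have : Fact (Nat.Prime 2) := ⟨Nat.prime_two⟩
  obtain ⟨h8, h3, hsq, -⟩ := h
  set N := normalizer ((P : Subgroup G) : Set G)
  obtain ⟨a, b, ha, hb, rfl, hab⟩ : ∃ a b : G, (∃ i : ℕ, orderOf a = 2 ^ i) ∧ Odd (orderOf b) ∧
      a * b = n ∧ a ∈ zpowers n ∧ b ∈ zpowers n := by
    obtain ⟨k, m, hm, he⟩ := Nat.exists_eq_two_pow_mul_odd (orderOf_pos n).ne'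
    have hcop : (2 ^ k).Coprime m := (Nat.coprime_two_left.2 hm).pow_left k
    obtain ⟨i, j, hij⟩ : ∃ i j : ℤ, i * m + j * (2 ^ k : ℕ) = 1 := by
      refine ⟨Nat.gcdB (2 ^ k) m, Nat.gcdA (2 ^ k) m, ?_⟩
      have h1 := Nat.gcd_eq_gcd_ab (2 ^ k) m
      rw [Nat.coprime_iff_gcd_eq_one.1 hcop] at h1
      push_cast at h1 ⊢
      linarith
    refine ⟨n ^ (i * m), n ^ (j * (2 ^ k : ℕ)), ?_, ?_, ?_, zpow_mem (mem_zpowers n) _,
      zpow_mem (mem_zpowers n) _⟩
    · obtain ⟨l, -, hl⟩ := (Nat.dvd_prime_pow Nat.prime_two).1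
        (show orderOf (n ^ (i * m)) ∣ 2 ^ k by
          rw [orderOf_dvd_iff_pow_eq_one, ← zpow_natCast, ← zpow_mul,
            show i * m * (2 ^ k : ℕ) = ((2 ^ k * m : ℕ) : ℤ) * i by push_cast; ring, ← he, zpow_mul,
            zpow_natCast, pow_orderOf_eq_one, one_zpow])
      exact ⟨l, hl⟩
    · refine Odd.of_dvd_nat hm (orderOf_dvd_iff_pow_eq_one.2 ?_)
      rw [← zpow_natCast, ← zpow_mul,
        show j * (2 ^ k : ℕ) * m = ((2 ^ k * m : ℕ) : ℤ) * j by push_cast; ring, ← he, zpow_mul,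
        zpow_natCast, pow_orderOf_eq_one, one_zpow]
    · rw [← zpow_add, hij, zpow_one]
  have haN : a ∈ N := zpowers_le.2 hn hab.1
  have haP : a ∈ (P : Subgroup G) := by
    obtain ⟨i, hi⟩ := ha
    have hpg : IsPGroup 2 (zpowers a) := IsPGroup.of_card (n := i) (by rw [Nat.card_zpowers, hi])
    have hj := hpg.to_sup_of_normal_right' P.2 (zpowers_le.2 haN)
    exact (P.3 hj le_sup_right) ▸ (le_sup_left : zpowers a ≤ _) (mem_zpowers a)
  have haC : a ∈ centralizer ((P : Subgroup G) : Set G) := by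
    refine mem_centralizer_iff.2 fun x hx => ?_
    have e1 := hsq (a * x) (mul_mem haP hx)
    have e2 : a⁻¹ = a := inv_eq_of_mul_eq_one_right (hsq a haP)
    have e3 : x⁻¹ = x := inv_eq_of_mul_eq_one_right (hsq x hx)
    have e4 := inv_eq_of_mul_eq_one_right e1
    rw [mul_inv_rev, e2, e3] at e4
    exact e4
  refine mul_mem haC (by_contra fun hbC => ?_)
  have hbN : b ∈ N := zpowers_le.2 hn hab.2
  have hne : ∃ x ∈ (P : Subgroup G), b * x * b⁻¹ ≠ x := by
    by_contra h'
    push Not at h'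
    exact hbC (mem_centralizer_iff.2 fun x hx => (mul_inv_eq_iff_eq_mul.1 (h' x hx)).symm)
  obtain ⟨q, m, F, hq, hqo, hqg, -, hFQ, hFne, hmod, -, hfix, -⟩ := exists_prime_action hbN hne hb
  have hby : b * y * b⁻¹ = y := by
    have hcy : a * b ∈ centralizer ({y} : Set G) :=
      mem_centralizer_singleton_iff.2 (mul_inv_eq_iff_eq_mul.1 hc)
    exact mul_inv_eq_iff_eq_mul.2 (mem_centralizer_singleton_iff.1 (zpowers_le.2 hcy hab.2))
  have hq3 : q ≠ 3 := fun e => h3 (e ▸ hqg.trans (by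
    rw [← orderOf_mk b hbN]; exact orderOf_dvd_natCard _))
  obtain ⟨hF1, -, -⟩ := fixed_count hq hqo hq3 (Or.inr (Or.inr (Or.inr h8))) (card_dvd_of_le hFQ)
    (fun e => hFne (eq_of_le_of_card_ge hFQ e.ge)) hmod
  have := eq_bot_of_card_eq F hF1
  exact hy1 (by simpa [this] using hfix y hy hby)

/-- `m = 12`. -/
theorem hall_twelve (hdvd : 12 ∣ Nat.card G) (hcop : (12 : ℕ).Coprime (Nat.card G / 12)) :
    ∃ H : Subgroup G, Nat.card H = 12 := by
  have : Fact (Nat.Prime 2) := ⟨Nat.prime_two⟩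
  obtain ⟨P⟩ := (inferInstance : Nonempty (Sylow 2 G))
  have hP := card_sylow_two P (t := 2) (c := 3) (by norm_num) (by decide) hdvd hcop
  rcases local_cases P (Or.inl hP) with h | ⟨R, -, -, hX, h⟩ | h
  · exact hall_of_solvable_top hdvd hcop h
  · rw [hP] at h
    exact hall_of_solvable hdvd hcop _ hX h
  · exact absurd h.1 (by omega)

end CfsgLib.HallNumber
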