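import Cfsg.Agent.Lib.HallNumber.Small
import Cfsg.Agent.Lib.Blocks.FrobeniusAutomizer
import Cfsg.Agent.Lib.Blocks.KleinOrder
import Cfsg.Agent.Lib.ClassSizes.BrauerWielandtFour
import Cfsg.Agent.Lib.Classical.NoncyclicCenter
import Cfsg.Agent.Lib.ZStar.PrincipalBlock
import Cfsg.Agent.S0217

/-!
# Sylow 2-subgroups of order eight with an automizer of order seven

The involution centralisers split, their cores generate an odd subgroup `W`, and the principal
block gives `|G| Σ = 384 |W|` with `Σ > 1 / 7`.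
-/

set_option autoImplicit false

namespace CfsgLib.HallNumber

open Subgroup CfsgLib.Classical.TwoType
open scoped ComplexConjugate

universe u

variable {G : Type u} [Group G] [Fintype G] {P : Sylow 2 G} (h : SevenAction P)
include h

theorem SevenAction.comm {x y : G} (hx : x ∈ (P : Subgroup G)) (hy : y ∈ (P : Subgroup G)) :
    x * y = y * x := by
  have e := inv_eq_of_mul_eq_one_right (h.2.2.1 _ (mul_mem hx hy))
  rwa [mul_inv_rev, inv_eq_of_mul_eq_one_right (h.2.2.1 _ hx),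
    inv_eq_of_mul_eq_one_right (h.2.2.1 _ hy), eq_comm] at e

theorem SevenAction.orderOf_two {x : G} (hx : x ∈ (P : Subgroup G)) (h1 : x ≠ 1) : orderOf x = 2 :=
  orderOf_eq_prime (by rw [pow_two]; exact h.2.2.1 x hx) h1

theorem SevenAction.setting : CfsgLib.Automizer.Setting 2 P
    ((centralizer ((P : Subgroup G) : Set G)).relIndex (normalizer ((P : Subgroup G) : Set G))) := by
  refine ⟨fun x hx y hy => h.comm hx hy, rfl, fun y hy hy1 => le_antisymm ?_ ?_⟩
  · rintro n ⟨hn, hnN⟩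
    exact h.fpf hnN hy hy1 (mul_inv_eq_iff_eq_mul.2 (mem_centralizer_singleton_iff.1 hn))
  · exact le_inf (fun n hn => mem_centralizer_singleton_iff.2 (mem_centralizer_iff.1 hn y hy).symm)
      (centralizer_le_normalizer _)

/-- Centralisers of involutions split over their cores. -/
theorem SevenAction.split {t : G} (ht : t ∈ (P : Subgroup G)) (ht1 : t ≠ 1) :
    ∃ f : centralizer ({t} : Set G) →* (P : Subgroup G),
      (∀ x : centralizer ({t} : Set G), ∀ hx : (x : G) ∈ (P : Subgroup G), f x = ⟨x, hx⟩) ∧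
      (∀ x : centralizer ({t} : Set G), f x = 1 ↔ (x : G) ∈ oC t) ∧
      (∀ x : centralizer ({t} : Set G), ¬ 2 ∣ orderOf x ↔ f x = 1) ∧
      f.ker.index = 8 ∧ Nat.card f.ker = Nat.card (oC t) := by
  have : Fact (Nat.Prime 2) := ⟨Nat.prime_two⟩
  obtain ⟨f, hf, hker, hidx⟩ := CfsgLib.Automizer.exists_complement h.setting ht ht1
  have hodd : Odd (Nat.card f.ker) := Nat.not_even_iff_odd.1 fun he => hker he.two_dvd
  have hord : ∀ x : centralizer ({t} : Set G), ¬ 2 ∣ orderOf x ↔ f x = 1 := fun x => by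
    constructor
    · intro hx
      rw [← orderOf_eq_one_iff]
      have h1 := orderOf_map_dvd f x
      have h2 : orderOf (f x) ∣ 2 ^ 3 := by
        rw [show 2 ^ 3 = Nat.card (P : Subgroup G) by rw [h.1]; norm_num]
        exact orderOf_dvd_natCard _
      exact Nat.eq_one_of_dvd_coprimes
        (((Nat.Prime.coprime_iff_not_dvd Nat.prime_two).2 hx).pow_left 3) h2 h1
    · intro hx h2
      have h1 : orderOf x ∣ Nat.card f.ker := Subgroup.orderOf_dvd_natCard f.ker hx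
      exact hker (h2.trans h1)
  have hiff : ∀ x : centralizer ({t} : Set G), f x = 1 ↔ (x : G) ∈ oC t := fun x => by
    constructor
    · intro hx
      refine le_oC (X := f.ker.map (centralizer ({t} : Set G)).subtype) ?_ (map_subtype_le _) ?_
        ⟨x, hx, rfl⟩
      · rwa [card_map_of_injective (Subgroup.subtype_injective _)]
      · have h' := le_normalizer_map (H := f.ker) (centralizer ({t} : Set G)).subtype
        rw [normalizer_eq_top, ← MonoidHom.range_eq_map, range_subtype] at h'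
        exact h'
    · intro hx
      refine (hord x).1 fun h2 => ?_
      have h1 : orderOf (⟨(x : G), hx⟩ : oC t) ∣ Nat.card (oC t) := orderOf_dvd_natCard _
      rw [orderOf_mk, orderOf_coe] at h1
      exact Nat.not_even_iff_odd.2 (odd_oC t) (even_iff_two_dvd.2 (h2.trans h1))
  refine ⟨f, hf, hiff, hord, by rw [hidx, h.1], ?_⟩
  exact Nat.card_congr
    { toFun := fun x => ⟨((x : centralizer ({t} : Set G)) : G), (hiff _).1 x.2⟩
      invFun := fun x => ⟨⟨x, oC_le t x.2⟩, (hiff _).2 x.2⟩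
      left_inv := fun _ => rfl
      right_inv := fun _ => rfl }

theorem SevenAction.odd_mem_oC {t x : G} (ht : t ∈ (P : Subgroup G)) (ht1 : t ≠ 1)
    (hx : x ∈ centralizer ({t} : Set G)) (ho : ¬ 2 ∣ orderOf x) : x ∈ oC t := by
  obtain ⟨f, -, hiff, hord, -⟩ := h.split ht ht1
  exact (hiff ⟨x, hx⟩).1 ((hord _).1 (by rwa [orderOf_mk]))

theorem SevenAction.cores :
    ∃ W : Subgroup G, Odd (Nat.card W) ∧
      normalizer ((P : Subgroup G) : Set G) ≤ normalizer (W : Set G) ∧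
      (∀ t ∈ (P : Subgroup G), t ≠ 1 → oC t ≤ W ∧ W ⊓ centralizer ({t} : Set G) = oC t) ∧
      (∀ t ∈ (P : Subgroup G), t ≠ 1 → ∀ s ∈ (P : Subgroup G), s ≠ 1 →
        Nat.card (oC t) = Nat.card (oC s)) ∧
      ((∀ t ∈ (P : Subgroup G), t ≠ 1 → oC t = ⊥) → W = ⊥) := by
  have : Fact (Nat.Prime 2) := ⟨Nat.prime_two⟩
  obtain ⟨h1, h2⟩ := Cfsg.Agent.S0217.result (p := 2) (P : Subgroup G) (fun a ha b hb => h.comm ha hb)
    (fun a ha => by rw [pow_two]; exact h.2.2.1 a ha) (by rw [h.1]; norm_num) oC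
    (fun a _ _ => oC_le a)
    (fun a _ _ hd => Nat.not_even_iff_odd.2 (odd_oC a) (even_iff_two_dvd.2 hd))
    (fun a ha _ b hb x hx => (mem_normalizer_iff.1 (le_normalizer_oC a
      (mem_centralizer_singleton_iff.2 (h.comm hb ha))) x).1 hx)
    (fun a _ _ => solvable_odd (odd_oC a))
    (fun a _ _ b hb hb1 x hx => h.odd_mem_oC hb hb1 hx.2 fun hd => by
      have h3 : orderOf (⟨x, hx.1⟩ : oC a) ∣ Nat.card (oC a) := orderOf_dvd_natCard _
      rw [orderOf_mk] at h3
      exact Nat.not_even_iff_odd.2 (odd_oC a) (even_iff_two_dvd.2 (hd.trans h3)))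
  refine ⟨⨆ a : {a : G // a ∈ (P : Subgroup G) ∧ a ≠ 1}, oC (a : G),
    Nat.not_even_iff_odd.1 fun he => h1 he.two_dvd, ?_, fun t ht ht1 =>
      ⟨le_iSup (fun a : {a : G // a ∈ (P : Subgroup G) ∧ a ≠ 1} => oC (a : G)) ⟨t, ht, ht1⟩,
        h2 t ht ht1⟩,
    fun t ht ht1 s hs hs1 => ?_, fun hb => iSup_eq_bot.2 fun a => hb a a.2.1 a.2.2⟩
  · intro g hg
    rw [mem_normalizer_iff_map_conj_eq]
    refine Subgroup.eq_of_le_of_card_ge ?_ (le_of_eq (Nat.card_congr
      (equivMapOfInjective _ _ (MulAut.conj g).injective).toEquiv))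
    rw [Subgroup.map_iSup]
    exact iSup_le fun a => (map_oC_le g a).trans
      (le_iSup (fun a : {a : G // a ∈ (P : Subgroup G) ∧ a ≠ 1} => oC (a : G))
        ⟨g * a * g⁻¹, (mem_normalizer_iff.1 hg a).1 a.2.1, fun e => a.2.2 (conj_eq_one_iff.1 e)⟩)
  · have hle : ∀ x ∈ (P : Subgroup G), x ≠ 1 → ∀ y ∈ (P : Subgroup G), y ≠ 1 →
        Nat.card (oC x) ≤ Nat.card (oC y) := fun x hx hx1 y hy hy1 => by
      obtain ⟨n, -, rfl⟩ := h.2.2.2 x hx hx1 y hy hy1
      rw [← card_map_of_injective (K := oC x) (f := (MulAut.conj n).toMonoidHom) (MulAut.conj n).injective]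
      exact card_le_of_le (map_oC_le n x)
    exact le_antisymm (hle t ht ht1 s hs hs1) (hle s hs hs1 t ht ht1)

omit h in
/-- Inverted elements. -/
theorem fixed_mul_inverted (X : Subgroup G) (hX : Odd (Nat.card X)) {u : G} (hu : u * u = 1)
    (hun : u ∈ normalizer (X : Set G)) :
    Nat.card (X ⊓ centralizer ({u} : Set G) : Subgroup G) *
      Nat.card {y : G // y ∈ X ∧ u * y * u⁻¹ = y⁻¹} = Nat.card X := by
  set a : X ≃* X := X.normalizerMonoidHom ⟨u, hun⟩
  have happ : ∀ x : X, ((a x : X) : G) = u * x * u⁻¹ := fun _ => rfl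
  have ha : ∀ x, a (a x) = x := fun x => Subtype.ext (by
    rw [happ, happ, show u * (u * x * u⁻¹) * u⁻¹ = (u * u) * x * (u * u)⁻¹ by group, hu]
    simp)
  have h0 := CfsgLib.ClassSizes.BWFour.card_eq_fixed_mul_inverted hX a ha ⊤ fun _ _ => mem_top _
  rw [card_top] at h0
  rw [h0]
  congr 1
  · exact Nat.card_congr
      { toFun := fun y => ⟨⟨y, y.2.1⟩, mem_top _, Subtype.ext (by
          rw [happ, mul_inv_eq_iff_eq_mul]
          exact (mem_centralizer_singleton_iff.1 y.2.2).symm)⟩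
        invFun := fun y => ⟨y.1.1, y.1.2, mem_centralizer_singleton_iff.2 (by
          have e := congrArg Subtype.val y.2.2
          rw [happ, mul_inv_eq_iff_eq_mul] at e
          exact e.symm)⟩
        left_inv := fun _ => rfl
        right_inv := fun _ => rfl }
  · exact Nat.card_congr
      { toFun := fun y => ⟨⟨y, y.2.1⟩, mem_top _, Subtype.ext (by rw [happ]; exact y.2.2)⟩
        invFun := fun y => ⟨y.1.1, y.1.2, by
          have e := congrArg Subtype.val y.2.2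
          rw [happ] at e
          exact e⟩
        left_inv := fun _ => rfl
        right_inv := fun _ => rfl }

omit h in
/-- The formula of Brauer and Wielandt for a four-group normalising an odd subgroup. -/
theorem brauer_wielandt_subgroup (X : Subgroup G) (hX : Odd (Nat.card X)) {t u : G} (ht : t * t = 1)
    (hu : u * u = 1) (hc : t * u = u * t) (htn : t ∈ normalizer (X : Set G))
    (hun : u ∈ normalizer (X : Set G)) :
    Nat.card X * Nat.card (X ⊓ centralizer ({t} : Set G) ⊓ centralizer ({u} : Set G) : Subgroup G) ^ 2 =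
      Nat.card (X ⊓ centralizer ({t} : Set G) : Subgroup G) *
        Nat.card (X ⊓ centralizer ({u} : Set G) : Subgroup G) *
        Nat.card (X ⊓ centralizer ({t * u} : Set G) : Subgroup G) := by
  set φ := X.normalizerMonoidHom
  have happ : ∀ (v : normalizer (X : Set G)) (x : X), ((φ v x : X) : G) = v * x * (v : G)⁻¹ :=
    fun _ _ => rfl
  have heq : ∀ (v : normalizer (X : Set G)) (x : X), φ v x = x ↔
      (x : G) ∈ centralizer ({(v : G)} : Set G) := fun v x => by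
    rw [Subtype.ext_iff, happ, mul_inv_eq_iff_eq_mul, mem_centralizer_singleton_iff, eq_comm]
  have hinv : ∀ (v : normalizer (X : Set G)), (v : G) * v = 1 → ∀ x, φ v (φ v x) = x := fun v hv x => by
    rw [← MulAut.mul_apply, ← map_mul, show v * v = 1 from Subtype.ext hv, map_one, MulAut.one_apply]
  have key := CfsgLib.ClassSizes.BWFour.brauer_wielandt hX (φ ⟨t, htn⟩) (φ ⟨u, hun⟩) (hinv _ ht)
    (hinv _ hu) fun x => by
      rw [← MulAut.mul_apply, ← map_mul, show (⟨t, htn⟩ * ⟨u, hun⟩ : normalizer (X : Set G)) =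
        ⟨u, hun⟩ * ⟨t, htn⟩ from Subtype.ext hc, map_mul, MulAut.mul_apply]
  have e1 : ∀ (v : normalizer (X : Set G)) (p : X → Prop), (∀ x, p x ↔ φ v x = x) →
      Nat.card {x : X // p x} = Nat.card (X ⊓ centralizer ({(v : G)} : Set G) : Subgroup G) :=
    fun v p hp => Nat.card_congr
      { toFun := fun x => ⟨x.1.1, x.1.2, (heq v _).1 ((hp _).1 x.2)⟩
        invFun := fun x => ⟨⟨x.1, x.2.1⟩, (hp _).2 ((heq v _).2 x.2.2)⟩
        left_inv := fun _ => rfl
        right_inv := fun _ => rfl }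
  have e2 : Nat.card {x : X // φ ⟨t, htn⟩ x = x ∧ φ ⟨u, hun⟩ x = x} =
      Nat.card (X ⊓ centralizer ({t} : Set G) ⊓ centralizer ({u} : Set G) : Subgroup G) :=
    Nat.card_congr
      { toFun := fun x => ⟨x.1.1, ⟨x.1.2, (heq _ _).1 x.2.1⟩, (heq _ _).1 x.2.2⟩
        invFun := fun x => ⟨⟨x.1, x.2.1.1⟩, (heq ⟨t, htn⟩ _).2 x.2.1.2, (heq ⟨u, hun⟩ _).2 x.2.2⟩
        left_inv := fun _ => rfl
        right_inv := fun _ => rfl }
  rwa [e2, e1 ⟨t, htn⟩ _ fun _ => Iff.rfl, e1 ⟨u, hun⟩ _ fun _ => Iff.rfl,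
    e1 (⟨t, htn⟩ * ⟨u, hun⟩) _ fun _ => by rw [map_mul, MulAut.mul_apply]] at key

/-- The number of ways of writing elements of `t O(C(t))` as products of two involutions. -/
theorem SevenAction.count {W : Subgroup G} (hW : Odd (Nat.card W))
    (hNW : normalizer ((P : Subgroup G) : Set G) ≤ normalizer (W : Set G))
    (hfix : ∀ t ∈ (P : Subgroup G), t ≠ 1 → oC t ≤ W ∧ W ⊓ centralizer ({t} : Set G) = oC t)
    (hk : ∀ t ∈ (P : Subgroup G), t ≠ 1 → ∀ s ∈ (P : Subgroup G), s ≠ 1 →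
      Nat.card (oC t) = Nat.card (oC s))
    {t : G} (ht : t ∈ (P : Subgroup G)) (ht1 : t ≠ 1) :
    Nat.card {q : G × oC t // orderOf q.1 = 2 ∧ orderOf (q.1 * (t * (q.2 : G))) = 2} *
      Nat.card (oC t) = 6 * Nat.card W := by
  classical
  have : Fact (Nat.Prime 2) := ⟨Nat.prime_two⟩
  obtain ⟨f, hf, hiff, hord, -, -⟩ := h.split ht ht1
  have hsq := h.2.2.1
  have htt : t * t = 1 := hsq t ht
  have htinv : t⁻¹ = t := inv_eq_of_mul_eq_one_right htt
  have hPC : ∀ x ∈ (P : Subgroup G), x ∈ centralizer ({t} : Set G) := fun x hx =>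
    mem_centralizer_singleton_iff.2 (h.comm hx ht)
  let U := {u : G // u ∈ (P : Subgroup G) ∧ u ≠ 1 ∧ u ≠ t}
  let I : G → Type u := fun u => {y : G // y ∈ oC t ∧ u * y * u⁻¹ = y⁻¹}
  have hU : Nat.card U = 6 := by
    have e : {u : G | u ∈ (P : Subgroup G) ∧ u ≠ 1 ∧ u ≠ t} = ((P : Subgroup G) : Set G) \ {1, t} := by
      ext x; simp only [Set.mem_ofPred_eq, Set.mem_sdiff, Set.mem_insert_iff, Set.mem_singleton_iff,
        SetLike.mem_coe]; tauto
    change Nat.card {u : G | u ∈ (P : Subgroup G) ∧ u ≠ 1 ∧ u ≠ t} = 6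
    rw [Nat.card_coe_set_eq, e, Set.ncard_sdiff (by
      simp only [Set.insert_subset_iff, Set.singleton_subset_iff, SetLike.mem_coe, one_mem, ht, and_self]),
      Set.ncard_pair (Ne.symm ht1), ← Nat.card_coe_set_eq]
    rw [show Nat.card ((P : Subgroup G) : Set G) = Nat.card (P : Subgroup G) from rfl, h.1]
  have hsum : Nat.card (Σ u : U, I u.1 × I (u.1 * t)) * Nat.card (oC t) = 6 * Nat.card W := by
    have := Fintype.ofFinite U
    rw [Nat.card_sigma, Finset.sum_mul, Finset.sum_congr rfl (g := fun _ => Nat.card W) fun u _ => ?_,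
      Finset.sum_const, Finset.card_univ, ← Nat.card_eq_fintype_card, hU, smul_eq_mul]
    obtain ⟨u, hu, hu1, hut⟩ := u
    have hut1 : u * t ≠ 1 := fun e => hut ((eq_inv_of_mul_eq_one_left e).trans htinv)
    have hnK : ∀ x ∈ (P : Subgroup G), x ∈ normalizer (oC t : Set G) := fun x hx =>
      le_normalizer_oC t (hPC x hx)
    have hnW : ∀ x ∈ (P : Subgroup G), x ∈ normalizer (W : Set G) := fun x hx => hNW (le_normalizer hx)
    have s1 := fixed_mul_inverted (oC t) (odd_oC t) (hsq u hu) (hnK u hu)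
    have s2 := fixed_mul_inverted (oC t) (odd_oC t) (hsq _ (mul_mem hu ht)) (hnK _ (mul_mem hu ht))
    have hsame : oC t ⊓ centralizer ({u * t} : Set G) = oC t ⊓ centralizer ({u} : Set G) := by
      ext x
      simp only [mem_inf, mem_centralizer_singleton_iff]
      refine and_congr_right fun hx => ?_
      have hxt : Commute x t := mem_centralizer_singleton_iff.1 (oC_le t hx)
      constructor
      · intro e
        have h' : Commute x (u * t * t) := Commute.mul_right e hxt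
        rw [mul_assoc, htt, mul_one] at h'
        exact h'.eq
      · exact fun e => (Commute.mul_right e hxt).eq
    rw [hsame] at s2
    have bw := brauer_wielandt_subgroup W hW htt (hsq u hu) (h.comm ht hu) (hnW t ht) (hnW u hu)
    rw [(hfix t ht ht1).2, (hfix u hu hu1).2, (hfix (t * u) (mul_mem ht hu)
      (by rw [h.comm ht hu]; exact hut1)).2, hk u hu hu1 t ht ht1,
      hk (t * u) (mul_mem ht hu) (by rw [h.comm ht hu]; exact hut1) t ht ht1] at bw
    set k := Nat.card (oC t) with hkdef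
    set c := Nat.card (oC t ⊓ centralizer ({u} : Set G) : Subgroup G) with hcdef
    rw [Nat.card_prod]
    show Nat.card (I u) * Nat.card (I (u * t)) * k = Nat.card W
    have hc0 : 0 < c := Nat.card_pos
    have hk0 : 0 < k := Nat.card_pos
    refine Nat.eq_of_mul_eq_mul_left (show 0 < c ^ 2 by positivity) ?_
    calc c ^ 2 * (Nat.card (I u) * Nat.card (I (u * t)) * k)
        = (c * Nat.card (I u)) * (c * Nat.card (I (u * t))) * k := by ring
      _ = k * k * k := by rw [s1, s2]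
      _ = Nat.card W * c ^ 2 := bw.symm
      _ = c ^ 2 * Nat.card W := by ring
  refine Eq.trans ?_ hsum
  congr 1
  have hpart : ∀ (u : G), u ∈ (P : Subgroup G) → ∀ y ∈ oC t, u * y * u⁻¹ = y⁻¹ → u ≠ 1 →
      orderOf (y * u) = 2 ∧ ∃ hc : y * u ∈ centralizer ({t} : Set G), (f ⟨_, hc⟩ : G) = u := by
    intro u hu y hy e hu1
    have hc := mul_mem (oC_le t hy) (hPC u hu)
    have hfu : (f ⟨_, hc⟩ : G) = u := by
      rw [show (⟨_, hc⟩ : centralizer ({t} : Set G)) = ⟨y, oC_le t hy⟩ * ⟨u, hPC u hu⟩ from rfl,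
        map_mul, (hiff _).2 hy, one_mul, hf _ hu]
    refine ⟨orderOf_eq_prime ?_ fun e1 => hu1 ?_, hc, hfu⟩
    · rw [pow_two, show y * u * (y * u) = y * (u * y * u⁻¹) * (u * u) by group, e, hsq u hu]
      group
    · rw [← hfu, show (⟨_, hc⟩ : centralizer ({t} : Set G)) = 1 from Subtype.ext e1, map_one]
      rfl
  let Ψ : (Σ u : U, I u.1 × I (u.1 * t)) →
      {q : G × oC t // orderOf q.1 = 2 ∧ orderOf (q.1 * (t * (q.2 : G))) = 2} := fun z =>
    ⟨(z.2.1.1 * z.1.1, ⟨t * ((z.2.1.1 * z.1.1)⁻¹ * (z.2.2.1 * (z.1.1 * t))), by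
      obtain ⟨-, ha, ea⟩ := hpart _ z.1.2.1 _ z.2.1.2.1 z.2.1.2.2 z.1.2.2.1
      obtain ⟨-, hb, eb⟩ := hpart _ (mul_mem z.1.2.1 ht) _ z.2.2.2.1 z.2.2.2.2
        fun e => z.1.2.2.2 ((eq_inv_of_mul_eq_one_left e).trans htinv)
      have hmem := mul_mem (hPC t ht) (mul_mem (inv_mem ha) hb)
      refine (hiff ⟨_, hmem⟩).1 (Subtype.ext ?_)
      rw [show (⟨_, hmem⟩ : centralizer ({t} : Set G)) = ⟨t, hPC t ht⟩ * (⟨_, ha⟩⁻¹ * ⟨_, hb⟩) from rfl,
        map_mul, map_mul, map_inv, hf ⟨t, hPC t ht⟩ ht, Subgroup.coe_mul, Subgroup.coe_mul,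
        Subgroup.coe_inv, ea, eb]
      show t * (z.1.1⁻¹ * (z.1.1 * t)) = 1
      rw [inv_mul_cancel_left, htt]⟩), (hpart _ z.1.2.1 _ z.2.1.2.1 z.2.1.2.2 z.1.2.2.1).1, by
      rw [show z.2.1.1 * z.1.1 * (t * (t * ((z.2.1.1 * z.1.1)⁻¹ * (z.2.2.1 * (z.1.1 * t))))) =
        z.2.1.1 * z.1.1 * ((t * t) * ((z.2.1.1 * z.1.1)⁻¹ * (z.2.2.1 * (z.1.1 * t)))) by group,
        htt, one_mul, mul_inv_cancel_left]
      exact (hpart _ (mul_mem z.1.2.1 ht) _ z.2.2.2.1 z.2.2.2.2
        fun e => z.1.2.2.2 ((eq_inv_of_mul_eq_one_left e).trans htinv)).1⟩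
  refine (Nat.card_eq_of_bijective Ψ ⟨?_, ?_⟩).symm
  · rintro ⟨⟨u, hu, hu1, hut⟩, ⟨y, hy, ey⟩, ⟨z, hz, ez⟩⟩ ⟨⟨u', hu', hu1', hut'⟩, ⟨y', hy', ey'⟩, ⟨z', hz', ez'⟩⟩ e
    have e1 : y * u = y' * u' := congrArg (fun q => q.1.1) e
    obtain ⟨-, ha, ea⟩ := hpart u hu y hy ey hu1
    obtain ⟨-, ha', ea'⟩ := hpart u' hu' y' hy' ey' hu1'
    obtain rfl : u = u' := by
      rw [← ea, ← ea']
      exact congrArg (fun w => ((f w : (P : Subgroup G)) : G)) (Subtype.ext e1)
    obtain rfl : y = y' := mul_right_cancel e1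
    have e2 := congrArg (fun q => (q.1.2 : G)) e
    simp only [Ψ, mul_right_inj, mul_left_inj] at e2
    subst e2
    rfl
  · rintro ⟨⟨a, y, hy⟩, ha2, hb2⟩
    set b := a * (t * y) with hbdef
    have hyC := mem_centralizer_singleton_iff.1 (oC_le t hy)
    have haa : a * a = 1 := by rw [← pow_two, ← ha2, pow_orderOf_eq_one]
    have hbb : b * b = 1 := by rw [← pow_two]; exact hb2 ▸ pow_orderOf_eq_one b
    have hp := CfsgLib.Blocks.isPPart_mul_of_mem_centralizer (p := 2) (x := t)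
      ⟨1, by rw [h.orderOf_two ht ht1, pow_one]⟩ (w := ⟨y, oC_le t hy⟩) (by
        intro h2
        have h3 : orderOf (⟨y, hy⟩ : oC t) ∣ Nat.card (oC t) := orderOf_dvd_natCard _
        rw [orderOf_mk] at h3
        rw [orderOf_mk] at h2
        exact Nat.not_even_iff_odd.2 (odd_oC t) (even_iff_two_dvd.2 (h2.trans h3)))
    have hinvg : a * (t * y) * a⁻¹ = (t * y)⁻¹ := by
      rw [inv_eq_of_mul_eq_one_right haa]
      exact eq_inv_of_mul_eq_one_left (by rw [mul_assoc]; exact hbb)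
    have hp2 : Cfsg.IsPPart 2 (t * y)⁻¹ t := by
      obtain ⟨w, e, hc, hk', hw⟩ := hp
      refine ⟨w⁻¹, ?_, hc.inv_right, hk', by rwa [orderOf_inv]⟩
      show t * w⁻¹ = (t * y)⁻¹
      rw [← show t * w = t * y from e, mul_inv_rev, htinv]
      exact hc.inv_right.eq
    have hat : a ∈ centralizer ({t} : Set G) := by
      have := CfsgLib.Blocks.conj_pPart_eq Nat.prime_two hp hp2 (x := a⁻¹) (j := 1) (by norm_num)
        (by rw [pow_one, pow_one, ← hinvg]; group)
      rw [inv_inv] at this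
      exact mem_centralizer_singleton_iff.2 (mul_inv_eq_iff_eq_mul.1 this)
    have hbt : b ∈ centralizer ({t} : Set G) :=
      mul_mem hat (mul_mem (hPC t ht) (oC_le t hy))
    set u : G := (f ⟨a, hat⟩ : G) with hudef
    have hu : u ∈ (P : Subgroup G) := (f ⟨a, hat⟩).2
    have hfb : ((f ⟨b, hbt⟩ : (P : Subgroup G)) : G) = u * t := by
      rw [show (⟨b, hbt⟩ : centralizer ({t} : Set G)) =
        ⟨a, hat⟩ * (⟨t, hPC t ht⟩ * ⟨y, oC_le t hy⟩) from rfl, map_mul, map_mul,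
        hf ⟨t, hPC t ht⟩ ht, (hiff ⟨y, oC_le t hy⟩).2 hy, mul_one, Subgroup.coe_mul]
    have hne : ∀ (x : G) (hx : x ∈ centralizer ({t} : Set G)), orderOf x = 2 → (f ⟨x, hx⟩ : G) ≠ 1 :=
      fun x hx hx2 e => (hord ⟨x, hx⟩).2 (Subtype.ext e) (by rw [orderOf_mk, hx2])
    have hu1 : u ≠ 1 := hne a hat ha2
    have hut : u ≠ t := fun e => hne b hbt hb2 (by rw [hfb, e, htt])
    have hsplit : ∀ (x : G) (hx : x ∈ centralizer ({t} : Set G)) (v : G), x * x = 1 →
        v ∈ (P : Subgroup G) → (f ⟨x, hx⟩ : G) = v →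
        x * v⁻¹ ∈ oC t ∧ v * (x * v⁻¹) * v⁻¹ = (x * v⁻¹)⁻¹ := by
      intro x hx v hx2 hv e
      have hm := mul_mem hx (inv_mem (hPC v hv))
      refine ⟨(hiff ⟨_, hm⟩).1 (Subtype.ext ?_), ?_⟩
      · rw [show (⟨_, hm⟩ : centralizer ({t} : Set G)) = ⟨x, hx⟩ * ⟨v, hPC v hv⟩⁻¹ from rfl, map_mul,
          map_inv, hf ⟨v, hPC v hv⟩ hv, Subgroup.coe_mul, Subgroup.coe_inv, e, mul_inv_cancel]
        rfl
      · refine eq_inv_of_mul_eq_one_left ?_
        rw [show v * (x * v⁻¹) * v⁻¹ * (x * v⁻¹) = v * (x * (v * v)⁻¹ * x) * v⁻¹ by group, hsq v hv]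
        simp [hx2]
    have h1 := hsplit a hat u haa hu rfl
    have h2 := hsplit b hbt (u * t) hbb (mul_mem hu ht) hfb
    refine ⟨⟨⟨u, hu, hu1, hut⟩, ⟨_, h1⟩, ⟨_, h2⟩⟩, Subtype.ext (Prod.ext ?_ (Subtype.ext ?_))⟩
    · exact inv_mul_cancel_right a u
    · show t * ((a * u⁻¹ * u)⁻¹ * (b * (u * t)⁻¹ * (u * t))) = y
      rw [inv_mul_cancel_right, inv_mul_cancel_right, hbdef, inv_mul_cancel_left, ← mul_assoc, htt, one_mul]


theorem SevenAction.isConj_involution {s t : G} (hs : orderOf s = 2) (ht : orderOf t = 2) :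
    IsConj s t := by
  have : Fact (Nat.Prime 2) := ⟨Nat.prime_two⟩
  have key : ∀ x : G, orderOf x = 2 → ∃ y ∈ (P : Subgroup G), y ≠ 1 ∧ IsConj x y := by
    intro x hx
    obtain ⟨Q, hQ⟩ := (IsPGroup.of_card (n := 1) (by rw [Nat.card_zpowers, hx, pow_one]) :
      IsPGroup 2 (zpowers x)).exists_le_sylow
    obtain ⟨c, hc⟩ := MulAction.exists_smul_eq G Q P
    refine ⟨c * x * c⁻¹, ?_, fun e => ?_, isConj_iff.2 ⟨c, rfl⟩⟩
    · rw [← hc, Sylow.coe_subgroup_smul]
      exact ⟨x, hQ (mem_zpowers x), by simp⟩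
    · rw [conj_eq_one_iff.1 e, orderOf_one] at hx; omega
  obtain ⟨a, ha, ha1, hsa⟩ := key s hs
  obtain ⟨b, hb, hb1, htb⟩ := key t ht
  obtain ⟨n, -, hn⟩ := h.2.2.2 a ha ha1 b hb hb1
  exact hsa.trans ((isConj_iff.2 ⟨n, hn⟩).trans htb.symm)

section Block

open Cfsg CfsgLib.Char CfsgLib.CharAction CfsgLib.Blocks
open scoped _root_.Classical

variable {M : Ideal AlgInt} [M.IsPrime] (hM : IsPModular 2 M)
include hM

/-- The average of a character over the section of `t`. -/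
theorem SevenAction.sum_section {t : G} (ht : t ∈ (P : Subgroup G)) (ht1 : t ≠ 1)
    (χ : IrrCharacter G) :
    ∑ y : oC t, (χ : G → ℂ) (t * (y : G)) =
      if χ ∈ principalBlock M G then (Nat.card (oC t) : ℂ) * (χ : G → ℂ) t else 0 := by
  have : Fact (Nat.Prime 2) := ⟨Nat.prime_two⟩
  obtain ⟨f, hf, hiff, hord, hindex, hcard⟩ := h.split ht ht1
  have hJ := h.orderOf_two ht ht1
  obtain ⟨N, hN⟩ : ∃ N, N = f.ker := ⟨_, rfl⟩
  have : N.Normal := hN ▸ f.normal_ker
  rw [← hN] at hindex hcard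
  have hindex' : N.index = 2 ^ 3 := hindex
  have hodd : ¬ 2 ∣ Nat.card N := by
    rw [hcard]
    exact fun h2 => Nat.not_even_iff_odd.2 (odd_oC t) (even_iff_two_dvd.2 h2)
  have hmem : ∀ y : centralizer ({t} : Set G), ¬ 2 ∣ orderOf y ↔ y ∈ N := fun y => by
    rw [hN, MonoidHom.mem_ker]; exact hord y
  have := Fintype.ofFinite (IrrCharacter (centralizer ({t} : Set G)))
  have h1r : ¬ 2 ∣ orderOf (1 : centralizer ({t} : Set G)) := by simp
  have hb := blockPart_principal_translate hM (x := t) ⟨1, by rw [hJ, pow_one]⟩ χ h1r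
  rw [OneMemClass.coe_one, mul_one, blockPart_apply] at hb
  have hb0 : (Set.toFinite (principalBlock M (centralizer ({t} : Set G)))).toFinset =
      Finset.univ.filter (fun ψ : IrrCharacter (centralizer ({t} : Set G)) =>
        ∀ n ∈ N, (ψ : centralizer ({t} : Set G) → ℂ) n =
          (ψ : centralizer ({t} : Set G) → ℂ) 1) := by
    ext ψ
    rw [Set.Finite.mem_toFinset, principalBlock_eq_of_complement N hM hodd hindex']
    simp
  have hdeg := sum_degree_sq_trivial N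
  rw [hindex'] at hdeg
  have hw : ∀ w : centralizer ({t} : Set G),
      ∑ᶠ ψ ∈ principalBlock M (centralizer ({t} : Set G)),
        (ψ : centralizer ({t} : Set G) → ℂ) 1 *
          (ψ : centralizer ({t} : Set G) → ℂ) w⁻¹ = if w ∈ N then 8 else 0 := by
    intro w
    by_cases hwN : w ∈ N
    · rw [if_pos hwN, finsum_mem_eq_finite_toFinset_sum _ (Set.toFinite _), hb0,
        Finset.sum_congr rfl (g := fun ψ : IrrCharacter (centralizer ({t} : Set G)) =>
          ((charDegree (ψ : centralizer ({t} : Set G) → ℂ) ^ 2 : ℕ) : ℂ)) fun ψ hψ => by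
          rw [(Finset.mem_filter.1 hψ).2 _ (inv_mem hwN), apply_one_eq_charDegree, Nat.cast_pow, sq],
        ← Nat.cast_sum, hdeg]
      norm_num
    · rw [if_neg hwN]
      refine sum_block_regular_singular hM isPBlock_principalBlock h1r ?_
      rw [orderOf_inv]
      by_contra hd
      exact hwN ((hmem w).1 hd)
  simp only [hw, mul_ite, mul_zero, ← Finset.sum_filter] at hb
  rw [Finset.sum_subtype (p := (· ∈ N)) _ (by simp), ← Finset.sum_mul, ← N.card_mul_index, hindex',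
    Nat.cast_mul] at hb
  push_cast at hb
  have hN0 : (Nat.card N : ℂ) ≠ 0 := Nat.cast_ne_zero.2 Nat.card_pos.ne'
  rw [mul_inv] at hb
  have hre : ∑ y : oC t, (χ : G → ℂ) (t * (y : G)) =
      ∑ y : N, (χ : G → ℂ) (t * ((y : centralizer ({t} : Set G)) : G)) :=
    Fintype.sum_equiv
      { toFun := fun y => ⟨⟨(y : G), oC_le t y.2⟩, by rw [hN, MonoidHom.mem_ker]; exact (hiff _).2 y.2⟩
        invFun := fun y => ⟨((y : centralizer ({t} : Set G)) : G), (hiff _).1 (MonoidHom.mem_ker.1 (hN ▸ y.2))⟩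
        left_inv := fun _ => rfl
        right_inv := fun _ => rfl } _ _ fun _ => rfl
  rw [hre, ← hcard]
  split_ifs at hb ⊢ with hχ
  · rw [← hb]; field_simp
  · have h' : (∑ y : N, (χ : G → ℂ) (t * ((y : centralizer ({t} : Set G)) : G))) *
        ((Nat.card N : ℂ))⁻¹ = 0 := by linear_combination hb
    exact (mul_eq_zero.1 h').resolve_right (inv_ne_zero hN0)

/-- The order formula. -/
theorem SevenAction.order_formula {W : Subgroup G} (hW : Odd (Nat.card W))
    (hNW : normalizer ((P : Subgroup G) : Set G) ≤ normalizer (W : Set G))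
    (hfix : ∀ t ∈ (P : Subgroup G), t ≠ 1 → oC t ≤ W ∧ W ⊓ centralizer ({t} : Set G) = oC t)
    (hk : ∀ t ∈ (P : Subgroup G), t ≠ 1 → ∀ s ∈ (P : Subgroup G), s ≠ 1 →
      Nat.card (oC t) = Nat.card (oC s))
    {t : G} (ht : t ∈ (P : Subgroup G)) (ht1 : t ≠ 1) :
    (Nat.card G : ℂ) * ∑ᶠ χ ∈ principalBlock M G, (χ : G → ℂ) t ^ 3 / (χ : G → ℂ) 1 =
      384 * (Nat.card W : ℂ) := by
  have : Fact (Nat.Prime 2) := ⟨Nat.prime_two⟩
  have := Fintype.ofFinite (IrrCharacter G)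
  have hJ := h.orderOf_two ht ht1
  have hone : ∀ a b : G, orderOf a = 2 → orderOf b = 2 → IsConj a b :=
    fun a b ha hb => h.isConj_involution ha hb
  have hcount := h.count hW hNW hfix hk ht ht1
  obtain ⟨f, -, -, -, hindex, hcard⟩ := h.split ht ht1
  set c : ℂ := (Nat.card (centralizer ({t} : Set G)) : ℂ) with hc
  have hc0 : c ≠ 0 := Nat.cast_ne_zero.2 Nat.card_pos.ne'
  have hcN : c = 8 * (Nat.card (oC t) : ℂ) := by
    rw [hc, ← f.ker.card_mul_index, hindex, hcard]; push_cast; ring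
  have hind : ∀ b : G, (if orderOf b = 2 then (1 : ℂ) else 0) =
      c⁻¹ * ∑ χ : IrrCharacter G, (χ : G → ℂ) b * (χ : G → ℂ) t := fun b => by
    rw [sum_apply_mul_involution hone hJ b]
    split_ifs
    · rw [inv_mul_cancel₀ hc0]
    · rw [mul_zero]
  have hclass : ∀ F : G → ℂ, c * ∑ a : G, (if orderOf a = 2 then (1 : ℂ) else 0) * F a =
      ∑ x : G, F (x * t * x⁻¹) := by
    intro F
    have hmaps : ∀ x ∈ (Finset.univ : Finset G), x * t * x⁻¹ ∈
        Finset.univ.filter (fun a : G => orderOf a = 2) := fun x _ => by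
      simp only [Finset.mem_filter, Finset.mem_univ, true_and]
      rw [← hJ]
      exact MulEquiv.orderOf_eq (MulAut.conj x) t
    simp only [ite_mul, one_mul, zero_mul, ← Finset.sum_filter]
    rw [← Finset.sum_fiberwise_of_maps_to hmaps, Finset.mul_sum]
    refine Finset.sum_congr rfl fun a ha => ?_
    obtain ⟨g, hg⟩ := isConj_iff.1 (hone t a hJ (Finset.mem_filter.1 ha).2)
    rw [Finset.sum_congr rfl fun x hx => by rw [(Finset.mem_filter.1 hx).2], Finset.sum_const,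
      nsmul_eq_mul, hc]
    congr 1
    rw [Nat.card_eq_fintype_card, ← Finset.card_univ]
    norm_cast
    refine Finset.card_bij (fun z _ => g * (z : G)) (fun z _ => ?_)
      (fun z _ z' _ e => Subtype.ext (mul_left_cancel e)) fun x hx => ⟨⟨g⁻¹ * x, ?_⟩,
        Finset.mem_univ _, by group⟩
    · simp only [Finset.mem_filter, Finset.mem_univ, true_and]
      rw [← hg, show g * (z : G) * t * (g * (z : G))⁻¹ = g * ((z : G) * t * (z : G)⁻¹) * g⁻¹ by group,
        mem_centralizer_singleton_iff.1 z.2, mul_inv_cancel_right]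
    · have hx' : x * t * x⁻¹ = g * t * g⁻¹ := (Finset.mem_filter.1 hx).2.trans hg.symm
      refine mem_centralizer_singleton_iff.2 (mul_inv_eq_iff_eq_mul.1 ?_)
      calc g⁻¹ * x * t * (g⁻¹ * x)⁻¹ = g⁻¹ * (x * t * x⁻¹) * g := by group
        _ = t := by rw [hx']; group
  set Z := {q : G × oC t // orderOf q.1 = 2 ∧ orderOf (q.1 * (t * (q.2 : G))) = 2}
  have hWsum : c ^ 2 * (Nat.card Z : ℂ) =
      (Nat.card G : ℂ) * ∑ χ : IrrCharacter G, (χ : G → ℂ) t ^ 2 / (χ : G → ℂ) 1 *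
        ∑ y : oC t, (χ : G → ℂ) (t * (y : G)) := by
    have hWc' : (Nat.card Z : ℂ) = ∑ y : oC t, ∑ a : G, (if orderOf a = 2 then (1 : ℂ) else 0) *
        (if orderOf (a * (t * (y : G))) = 2 then (1 : ℂ) else 0) := by
      rw [Nat.card_eq_fintype_card, Fintype.card_subtype]
      simp only [Finset.natCast_card_filter, Fintype.sum_prod_type]
      rw [Finset.sum_comm]
      refine Finset.sum_congr rfl fun y _ => Finset.sum_congr rfl fun a _ => ?_
      split_ifs <;> simp_all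
    rw [hWc', Finset.mul_sum]
    simp only [Finset.mul_sum]
    rw [Finset.sum_comm (γ := IrrCharacter G)]
    refine Finset.sum_congr rfl fun y _ => ?_
    rw [← Finset.mul_sum, sq, mul_assoc, hclass]
    simp only [hind, Finset.mul_sum]
    rw [Finset.sum_comm]
    refine Finset.sum_congr rfl fun χ _ => ?_
    have hs := sum_char_mul_conj χ (t * (y : G)) t
    rw [← Finset.mul_sum, ← Finset.mul_sum, ← Finset.sum_mul,
      Finset.sum_congr rfl fun x _ => Char.IsChar.map_mul_comm (Char.IsIrr.isCharacter χ.2)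
        (x * t * x⁻¹) (t * (y : G)), hs]
    field_simp
  simp only [h.sum_section hM ht ht1, mul_ite, mul_zero, ← Finset.sum_filter] at hWsum
  have hfin : c ^ 2 * (Nat.card Z : ℂ) = (Nat.card G : ℂ) * ((Nat.card (oC t) : ℂ) *
      ∑ χ ∈ (Set.toFinite (principalBlock M G)).toFinset, (χ : G → ℂ) t ^ 3 / (χ : G → ℂ) 1) := by
    rw [hWsum, Finset.mul_sum (a := (Nat.card (oC t) : ℂ))]
    congr 1
    exact Finset.sum_congr (by ext; simp) fun χ _ => by ring
  have hcount' : (Nat.card Z : ℂ) * (Nat.card (oC t) : ℂ) = 6 * (Nat.card W : ℂ) := by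
    exact_mod_cast hcount
  rw [finsum_mem_eq_finite_toFinset_sum _ (Set.toFinite _)]
  have hN0 : (Nat.card (oC t) : ℂ) ≠ 0 := Nat.cast_ne_zero.2 Nat.card_pos.ne'
  refine mul_right_cancel₀ hN0 ?_
  rw [hcN] at hfin
  linear_combination 64 * (Nat.card (oC t) : ℂ) * hcount' - hfin

/-- `|G| < 2688 |W|`. -/
theorem SevenAction.card_lt {W : Subgroup G} (hW : Odd (Nat.card W))
    (hNW : normalizer ((P : Subgroup G) : Set G) ≤ normalizer (W : Set G))
    (hfix : ∀ t ∈ (P : Subgroup G), t ≠ 1 → oC t ≤ W ∧ W ⊓ centralizer ({t} : Set G) = oC t)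
    (hk : ∀ t ∈ (P : Subgroup G), t ≠ 1 → ∀ s ∈ (P : Subgroup G), s ≠ 1 →
      Nat.card (oC t) = Nat.card (oC s)) :
    Nat.card G < 2688 * Nat.card W := by
  have : Fact (Nat.Prime 2) := ⟨Nat.prime_two⟩
  obtain ⟨⟨t, ht⟩, ht2⟩ := exists_prime_orderOf_dvd_card' (G := (P : Subgroup G)) 2 (by rw [h.1]; norm_num)
  rw [orderOf_mk] at ht2
  have ht1 : t ≠ 1 := fun e => by rw [e, orderOf_one] at ht2; omega
  have hf := h.order_formula hM hW hNW hfix hk ht ht1
  choose a ha using fun χ : IrrCharacter G => exists_int_apply_of_orderOf_two χ ht2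
  set x : IrrCharacter G → ℕ := fun χ => charDegree (χ : G → ℂ) with hx
  have hx1 : ∀ χ : IrrCharacter G, (χ : G → ℂ) 1 = (x χ : ℂ) := fun χ => apply_one_eq_charDegree χ
  have hxpos : ∀ χ, (0 : ℚ) < (x χ : ℚ) := fun χ => Nat.cast_pos.2 (charDegree_pos _)
  have hconst : ∀ (χ : IrrCharacter G) (y : G), y ∈ (P : Subgroup G) → y ≠ 1 →
      (χ : G → ℂ) y = (χ : G → ℂ) t := by
    intro χ y hy hy1
    obtain ⟨n, -, rfl⟩ := h.2.2.2 t ht ht1 y hy hy1
    exact IsIrr.isClassFunction χ.2 t n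
  have hres : ∀ χ : IrrCharacter G, (0 : ℚ) ≤ (x χ : ℚ) + 7 * (a χ : ℚ) := by
    rintro ⟨χ, d, ρ, hρ, rfl⟩
    set χ₀ : IrrCharacter G := ⟨ρ.character, d, ρ, hρ, rfl⟩
    have havg := FDRep.average_char_eq_finrank_invariants (FDRep.of (ρ.comp (P : Subgroup G).subtype))
    set inv := Module.finrank ℂ (Representation.invariants (ρ.comp (P : Subgroup G).subtype))
    have hP0 : (Nat.card (P : Subgroup G) : ℂ) ≠ 0 := Nat.cast_ne_zero.2 Nat.card_pos.ne'
    rw [inv_mul_eq_iff_eq_mul₀ hP0] at havg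
    have hsum : ∑ y : (P : Subgroup G), (χ₀ : G → ℂ) y = ((8 * inv : ℕ) : ℂ) := by
      refine Eq.trans ?_ (havg.trans ?_)
      · exact Finset.sum_congr rfl fun y _ => rfl
      · rw [h.1]; push_cast; rfl
    rw [← Finset.add_sum_erase _ _ (Finset.mem_univ (1 : (P : Subgroup G))),
      Finset.sum_congr rfl (g := fun _ => (a χ₀ : ℂ)) (fun y hy => by
        rw [hconst χ₀ y y.2 fun e => Finset.ne_of_mem_erase hy (Subtype.ext e), ha]),
      Finset.sum_const, Finset.card_erase_of_mem (Finset.mem_univ _), Finset.card_univ,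
      ← Nat.card_eq_fintype_card, h.1, OneMemClass.coe_one, hx1, nsmul_eq_mul] at hsum
    have : ((x χ₀ : ℚ) + 7 * (a χ₀ : ℚ)) = ((8 * inv : ℕ) : ℚ) := by
      have h' : (((x χ₀ : ℤ) + 7 * a χ₀ : ℤ) : ℂ) = (((8 * inv : ℕ) : ℤ) : ℂ) := by
        push_cast at hsum ⊢; linear_combination hsum
      exact_mod_cast congrArg (fun z : ℤ => (z : ℚ)) (Int.cast_injective h')
    rw [this]
    exact Nat.cast_nonneg _
  set B := (Set.toFinite (principalBlock M G)).toFinset
  have h1B : Char.trivChar G ∈ B := (Set.Finite.mem_toFinset _).2 Blocks.trivChar_mem_principalBlock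
  have ha1 : a (Char.trivChar G) = 1 := by
    have := ha (Char.trivChar G)
    rw [Char.trivChar_apply] at this
    exact_mod_cast this.symm
  have hx11 : x (Char.trivChar G) = 1 := by
    have := hx1 (Char.trivChar G)
    rw [Char.trivChar_apply] at this
    exact_mod_cast this.symm
  have hnorm : ∑ χ ∈ B, (a χ : ℚ) ^ 2 = 8 := by
    have h1 := CfsgLib.Automizer.sum_norm h.setting hM ht ht1
    rw [finsum_mem_eq_finite_toFinset_sum _ (Set.toFinite _), h.1] at h1
    have htinv : t⁻¹ = t := inv_eq_of_mul_eq_one_right (h.2.2.1 t ht)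
    simp only [htinv, ha] at h1
    have h2 : ((∑ χ ∈ B, a χ ^ 2 : ℤ) : ℂ) = ((8 : ℤ) : ℂ) := by
      push_cast at h1 ⊢; rw [← h1]; exact Finset.sum_congr rfl fun χ _ => sq _
    exact_mod_cast congrArg (fun z : ℤ => (z : ℚ)) (Int.cast_injective h2)
  have hreg : ∑ χ ∈ B, (x χ : ℚ) * (a χ : ℚ) = 0 := by
    have h1 := sum_block_regular_singular hM isPBlock_principalBlock
      (show ¬ 2 ∣ orderOf (1 : G) by simp) (show 2 ∣ orderOf t by rw [ht2])
    rw [finsum_mem_eq_finite_toFinset_sum _ (Set.toFinite _)] at h1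
    simp only [ha, hx1] at h1
    have h2 : ((∑ χ ∈ B, (x χ : ℤ) * a χ : ℤ) : ℂ) = ((0 : ℤ) : ℂ) := by
      push_cast; exact h1
    exact_mod_cast congrArg (fun z : ℤ => (z : ℚ)) (Int.cast_injective h2)
  set S : ℚ := ∑ χ ∈ B, (a χ : ℚ) ^ 3 / (x χ : ℚ) with hS
  set B' := B.erase (Char.trivChar G)
  rw [← Finset.add_sum_erase _ _ h1B, ha1] at hnorm hreg
  rw [hx11] at hreg
  have hS' : S = 1 + ∑ χ ∈ B', (a χ : ℚ) ^ 3 / (x χ : ℚ) := by
    rw [hS, ← Finset.add_sum_erase _ _ h1B, ha1, hx11]; norm_num; rfl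
  obtain ⟨χ₁, hχ₁, hpos⟩ : ∃ χ ∈ B', 0 < a χ := by
    by_contra hcon
    push Not at hcon
    have hterm : ∀ χ ∈ B', (a χ : ℚ) * (x χ : ℚ) ≤ -7 * (a χ : ℚ) ^ 2 := fun χ hχ => by
      have h0 : (a χ : ℚ) ≤ 0 := by exact_mod_cast hcon χ hχ
      nlinarith [mul_le_mul_of_nonpos_left (show -7 * (a χ : ℚ) ≤ (x χ : ℚ) by linarith [hres χ]) h0]
    have := Finset.sum_le_sum hterm
    rw [← Finset.mul_sum] at this
    simp only [mul_comm (a _ : ℚ) (x _ : ℚ)] at this
    push_cast at hnorm hreg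
    linarith
  have hSpos : 1 / 7 < S := by
    have hterm : ∀ χ ∈ B', -((a χ : ℚ) ^ 2) / 7 ≤ (a χ : ℚ) ^ 3 / (x χ : ℚ) := fun χ _ => by
      rw [div_le_div_iff₀ (by norm_num) (hxpos χ)]
      nlinarith [mul_nonneg (sq_nonneg (a χ : ℚ)) (hres χ)]
    rw [hS', ← Finset.add_sum_erase _ _ hχ₁]
    rw [← Finset.add_sum_erase _ _ hχ₁] at hnorm
    have hrest := Finset.sum_le_sum (s := B'.erase χ₁) (fun χ hχ => hterm χ (Finset.mem_of_mem_erase hχ))
    rw [← Finset.sum_div, Finset.sum_neg_distrib] at hrest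
    have h1 : (1 : ℚ) ≤ (a χ₁ : ℚ) := by exact_mod_cast hpos
    have h2 : 0 < (a χ₁ : ℚ) ^ 3 / (x χ₁ : ℚ) := div_pos (by positivity) (hxpos χ₁)
    push_cast at hnorm
    nlinarith
  have hG : (Nat.card G : ℚ) * S = 384 * (Nat.card W : ℚ) := by
    rw [finsum_mem_eq_finite_toFinset_sum _ (Set.toFinite _)] at hf
    simp only [ha, hx1] at hf
    have h2 : (((Nat.card G : ℚ) * S : ℚ) : ℂ) = (((384 * (Nat.card W : ℚ) : ℚ)) : ℂ) := by
      rw [hS]; push_cast; exact hf
    exact_mod_cast h2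
  have hlt : (Nat.card G : ℚ) < 2688 * (Nat.card W : ℚ) := by
    have hGpos : (0 : ℚ) < (Nat.card G : ℚ) := Nat.cast_pos.2 Nat.card_pos
    nlinarith [mul_lt_mul_of_pos_left hSpos hGpos]
  exact_mod_cast hlt

end Block

end CfsgLib.HallNumber
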