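import Cfsg.Agent.Lib.Classical.Dickson.Borel
import Cfsg.Agent.Lib.Classical.Dickson.MaxExist
import Mathlib.NumberTheory.LSeries.PrimesInAP
import Mathlib.Data.Nat.ChineseRemainder
import Mathlib.Algebra.IsPrimePow

/-!
# Numbers which are not orders of Hall subgroups of every group

If `m = a b` with coprime `a, b ≥ 3`, `b` odd, and `a` odd or a power of `2`, then for a suitable
prime `l` the group `PSL(2, l)` has order exactly divisible by `m`; Dickson's list shows that it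
has no subgroup of order `m` unless `m` is 12, 24 or 60.
-/

set_option autoImplicit false

namespace CfsgLib.HallNumber

open Matrix

/-- Two exact congruences modulo a prime. -/
theorem exists_prime_split {a b : ℕ} (ha : 3 ≤ a) (hb : 3 ≤ b) (hab : a.Coprime b) (B : ℕ) :
    ∃ l u v, B < l ∧ l.Prime ∧ l = a * u + 1 ∧ l + 1 = b * v ∧ u.Coprime a ∧ v.Coprime b := by
  have hcop : (a * a).Coprime (b * b) :=
    Nat.Coprime.mul_left (Nat.Coprime.mul_right hab hab) (Nat.Coprime.mul_right hab hab)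
  obtain ⟨c, hc1, hc2⟩ := Nat.chineseRemainder hcop (1 + a) (b - 1)
  have hca : c.Coprime a := by
    have h := (hc1.of_dvd (dvd_mul_right a a)).gcd_eq
    rw [Nat.coprime_iff_gcd_eq_one, h]
    simp
  have hcb : c.Coprime b := by
    have h := (hc2.of_dvd (dvd_mul_right b b)).gcd_eq
    rw [Nat.coprime_iff_gcd_eq_one, h, Nat.gcd_self_sub_left (by omega)]
    exact Nat.gcd_one_left b
  have hcM : c.Coprime (a * a * (b * b)) :=
    Nat.Coprime.mul_right (Nat.Coprime.mul_right hca hca) (Nat.Coprime.mul_right hcb hcb)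
  obtain ⟨l, hl, hlp, hlc⟩ := Nat.forall_exists_prime_gt_and_modEq (max B (a + b + 2))
    (by positivity) hcM
  have hl1 : l ≡ 1 + a [MOD a * a] := (hlc.of_dvd (dvd_mul_right _ _)).trans hc1
  have hl2 : l ≡ b - 1 [MOD b * b] := (hlc.of_dvd (dvd_mul_left _ _)).trans hc2
  have hla : 1 + a ≤ l := by omega
  obtain ⟨i, hi⟩ := (Nat.modEq_iff_dvd' hla).1 hl1.symm
  have hlb : b - 1 ≤ l := by omega
  obtain ⟨j, hj⟩ := (Nat.modEq_iff_dvd' hlb).1 hl2.symm
  refine ⟨l, a * i + 1, b * j + 1, by omega, hlp, ?_, ?_, ?_, ?_⟩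
  · rw [mul_add, mul_one, ← mul_assoc, ← hi]; omega
  · rw [mul_add, mul_one, ← mul_assoc, ← hj]; omega
  · rw [Nat.coprime_mul_left_add_left]; exact Nat.coprime_one_left a
  · rw [Nat.coprime_mul_left_add_left]; exact Nat.coprime_one_left b

/-- The witness. -/
theorem exists_not_hall {m a b : ℕ} (hm : m = a * b) (ha : 3 ≤ a) (hb : 3 ≤ b) (hbo : Odd b)
    (hab : a.Coprime b) (ha2 : Odd a ∨ ∃ e, a = 2 ^ e) (h12 : m ≠ 12) (h24 : m ≠ 24) (h60 : m ≠ 60) :
    ∃ (G : Type) (_ : Group G) (_ : Finite G), m ∣ Nat.card G ∧ m.Coprime (Nat.card G / m) ∧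
      ∀ H : Subgroup G, Nat.card H ≠ m := by
  classical
  obtain ⟨l, u, v, hlm, hlp, hu, hv, hua, hvb⟩ := exists_prime_split ha hb hab m
  have : Fact l.Prime := ⟨hlp⟩
  have hm9 : 9 ≤ m := by rw [hm]; exact Nat.mul_le_mul ha hb
  have hl2 : l % 2 = 1 := by
    rcases hlp.eq_two_or_odd with h | h
    · omega
    · exact h
  have hF : Fintype.card (ZMod l) = l := ZMod.card l
  have hg2 : Nat.gcd 2 (l - 1) = 2 := Nat.gcd_eq_left (by omega)
  have hcard := CfsgLib.Classical.Dickson.gcd_mul_card_psl (F := ZMod l) hF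
  rw [hg2] at hcard
  obtain ⟨v', rfl⟩ : 2 ∣ v := by
    have h2 : 2 ∣ b * v := by rw [← hv]; omega
    exact (Nat.Coprime.dvd_of_dvd_mul_left (Nat.coprime_two_left.2 hbo) h2)
  have hG : Nat.card (ProjectiveSpecialLinearGroup (Fin 2) (ZMod l)) = m * (l * u * v') := by
    have e1 : l ^ 2 - 1 = (l - 1) * (l + 1) := by rw [mul_comm, ← Nat.sq_sub_sq, one_pow]
    have e2 : l - 1 = a * u := by omega
    rw [e1, e2, hv] at hcard
    refine Nat.eq_of_mul_eq_mul_left (show 0 < 2 by norm_num) (hcard.trans ?_)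
    rw [hm]; ring
  have hub : u.Coprime b := Nat.coprime_of_dvd' fun k hk hku hkb => by
    have h1 : k ∣ a * u := hku.mul_left a
    have h2 : k ∣ b * (2 * v') := hkb.mul_right _
    have h3 := Nat.dvd_sub h2 h1
    rw [show b * (2 * v') - a * u = 2 by omega] at h3
    rcases (Nat.dvd_prime Nat.prime_two).1 h3 with rfl | rfl
    · exact absurd hk Nat.not_prime_one
    · exact absurd hkb (by rw [← even_iff_two_dvd]; exact Nat.not_even_iff_odd.2 hbo)
  have hva : v'.Coprime a := Nat.coprime_of_dvd' fun k hk hkv hka => by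
    have h1 : k ∣ a * u := hka.mul_right u
    have h2 : k ∣ b * (2 * v') := (hkv.mul_left 2).mul_left b
    have h3 := Nat.dvd_sub h2 h1
    rw [show b * (2 * v') - a * u = 2 by omega] at h3
    rcases (Nat.dvd_prime Nat.prime_two).1 h3 with rfl | rfl
    · exact absurd hk Nat.not_prime_one
    · exfalso
      rcases ha2 with hao | ⟨e, rfl⟩
      · exact (Nat.not_even_iff_odd.2 hao) (even_iff_two_dvd.2 hka)
      · rcases e with _ | _ | e
        · simp at ha
        · simp at ha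
        · have h4 : 4 ∣ b * (2 * v') := by
            obtain ⟨w, rfl⟩ := hkv
            exact ⟨b * w, by ring⟩
          have h5 : 4 ∣ 2 ^ (e + 1 + 1) * u := ⟨2 ^ e * u, by ring⟩
          omega
  refine ⟨ProjectiveSpecialLinearGroup (Fin 2) (ZMod l), inferInstance, inferInstance,
    ⟨_, hG⟩, ?_, fun H hH => ?_⟩
  · rw [hG, Nat.mul_div_cancel_left _ (by omega), hm]
    refine Nat.Coprime.mul_right (Nat.Coprime.mul_right ?_ ?_) (Nat.Coprime.mul_left ?_ ?_)
    · exact ((Nat.Prime.coprime_iff_not_dvd hlp).2 fun h =>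
        absurd (Nat.le_of_dvd (by omega) h) (by omega)).symm
    · exact Nat.Coprime.mul_left hua.symm hub.symm
    · exact hva.symm
    · exact (hvb.coprime_dvd_left (dvd_mul_left _ _)).symm
  have hlH : ¬ l ∣ Nat.card H := by
    rw [hH]; exact fun h => absurd (Nat.le_of_dvd (by omega) h) (by omega)
  have hsides : m ∣ l - 1 ∨ m ∣ l + 1 → False := by
    rintro (h | h)
    · have h1 : b ∣ l - 1 := ((dvd_mul_left b a).trans (hm ▸ dvd_refl m)).trans h
      have h2 : b ∣ l + 1 := ⟨_, hv⟩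
      have h3 := Nat.dvd_sub h2 h1
      rw [show l + 1 - (l - 1) = 2 by omega] at h3
      have := Nat.le_of_dvd (by norm_num) h3
      omega
    · have h1 : a ∣ l + 1 := ((dvd_mul_right a b).trans (hm ▸ dvd_refl m)).trans h
      have h2 : a ∣ l - 1 := ⟨u, by omega⟩
      have h3 := Nat.dvd_sub h1 h2
      rw [show l + 1 - (l - 1) = 2 by omega] at h3
      have := Nat.le_of_dvd (by norm_num) h3
      omega
  have hhalf : ∀ k, (k ∣ (l + 1) / Nat.gcd 2 (l - 1) ∨ k ∣ (l - 1) / Nat.gcd 2 (l - 1)) →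
      m ∣ 2 * k → False := fun k hk hmk => hsides (by
    rw [hg2] at hk
    rcases hk with hk | hk
    · exact Or.inr (hmk.trans (by
        have h := Nat.mul_dvd_mul_left 2 hk
        rwa [Nat.mul_div_cancel' (by omega)] at h))
    · exact Or.inl (hmk.trans (by
        have h := Nat.mul_dvd_mul_left 2 hk
        rwa [Nat.mul_div_cancel' (by omega)] at h)))
  rcases CfsgLib.Classical.Dickson.subgroup_cases (F := ZMod l) l hF H with
    ⟨-, -, hd⟩ | ⟨h, -⟩ | ⟨n, -, -, hd, ⟨e⟩⟩ | ⟨⟨e⟩⟩ | ⟨⟨e⟩⟩ | ⟨⟨e⟩⟩ | ⟨i, j, -, hj, hi, h⟩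
  · exact hhalf (Nat.card H) hd (by rw [hH]; exact dvd_mul_left _ _)
  · exact hlH h
  · refine hhalf n hd ?_
    rw [← hH, Nat.card_congr e.toEquiv, DihedralGroup.nat_card]
  · rw [Nat.card_congr e.toEquiv, CfsgLib.Classical.Dickson.natCard_alt_four] at hH
    exact h12 hH.symm
  · rw [Nat.card_congr e.toEquiv, CfsgLib.Classical.Dickson.natCard_perm_four] at hH
    exact h24 hH.symm
  · rw [Nat.card_congr e.toEquiv, CfsgLib.Classical.Dickson.natCard_alt_five] at hH
    exact h60 hH.symm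
  · have hdl : l ∣ l ^ i * ((l ^ i) ^ 2 - 1) := (dvd_pow_self l hi).mul_right _
    rcases h with ⟨h, -⟩ | ⟨-, h, -⟩
    · exact hlH (h ▸ hdl)
    · rcases (Nat.Prime.dvd_mul hlp).1 (h.symm ▸ hdl) with h' | h'
      · have := Nat.le_of_dvd (by norm_num) h'; omega
      · exact hlH h'

/-- The forward direction. -/
theorem forward {m : ℕ} (hm : 2 ≤ m)
    (h : ∀ (G : Type) [Group G] [Finite G], m ∣ Nat.card G → m.Coprime (Nat.card G / m) →
      ∃ H : Subgroup G, Nat.card H = m) :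
    IsPrimePow m ∨ m % 4 = 2 ∨ m = 12 ∨ m = 24 ∨ m = 60 := by
  classical
  by_contra hcon
  push Not at hcon
  obtain ⟨hpp, h4, h12, h24, h60⟩ := hcon
  obtain ⟨p, hp, hpm, hodd⟩ : ∃ p, p.Prime ∧ p ∣ m ∧ (Odd m ∨ p = 2) := by
    rcases Nat.even_or_odd m with he | ho
    · exact ⟨2, Nat.prime_two, he.two_dvd, Or.inr rfl⟩
    · exact ⟨m.minFac, Nat.minFac_prime (by omega), Nat.minFac_dvd m, Or.inl ho⟩
  set e := m.factorization p with he
  have hm0 : m ≠ 0 := by omega
  have hd : p ^ e ∣ m := Nat.ordProj_dvd m p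
  set b := m / p ^ e with hb
  have hmab : m = p ^ e * b := (Nat.mul_div_cancel' hd).symm
  have he1 : 1 ≤ e := hp.factorization_pos_of_dvd hm0 hpm
  have hpb : ¬ p ∣ b := Nat.not_dvd_ordCompl hp hm0
  have hb1 : b ≠ 1 := fun hb' => hpp ⟨p, e, hp.prime, he1, by rw [hmab, hb', mul_one]⟩
  have hb0 : b ≠ 0 := fun hb' => by rw [hb', mul_zero] at hmab; omega
  have hbo : Odd b := by
    rcases hodd with ho | rfl
    · exact Odd.of_dvd_nat ho ⟨p ^ e, by rw [mul_comm]; exact hmab⟩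
    · exact Nat.odd_iff.2 (Nat.two_dvd_ne_zero.1 hpb)
  have hb3 : 3 ≤ b := by obtain ⟨k, hk⟩ := hbo; omega
  have ha3 : 3 ≤ p ^ e := by
    rcases hodd with ho | rfl
    · have : Odd p := Odd.of_dvd_nat ho hpm
      have h2 : 3 ≤ p := by have hp2 := hp.two_le; obtain ⟨k, hk⟩ := this; omega
      exact h2.trans (Nat.le_self_pow (by omega) p)
    · rcases e with _ | _ | e
      · omega
      · exfalso
        obtain ⟨k, hk⟩ := hbo
        norm_num at hmab
        omega
      · calc 3 ≤ 2 ^ 2 := by norm_num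
          _ ≤ 2 ^ (e + 1 + 1) := Nat.pow_le_pow_right two_pos (by omega)
  have ha2 : Odd (p ^ e) ∨ ∃ k, p ^ e = 2 ^ k := by
    rcases hodd with ho | rfl
    · exact Or.inl (Odd.of_dvd_nat ho hd)
    · exact Or.inr ⟨e, rfl⟩
  obtain ⟨G, iG, iF, h1, h2, h3⟩ := exists_not_hall hmab ha3 hb3 hbo
    (((Nat.Prime.coprime_iff_not_dvd hp).2 hpb).pow_left e) ha2 h12 h24 h60
  obtain ⟨H, hH⟩ := @h G iG iF h1 h2
  exact h3 H hH

end CfsgLib.HallNumber
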