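import Cfsg.Agent.Lib.HallNumber.TwentyFour
import Cfsg.Agent.Lib.GW.Deps.DihedralShape
import Cfsg.Agent.Lib.Classical.Dickson.PlatonicIff
import Cfsg.Agent.Lib.Transfer.MaximalClass
import Cfsg.Agent.Lib.Core.Cores
import Cfsg.Agent.Lib.HallNumber.Forward

/-!
# `m = 60`, given the theorem of Gorenstein and Walter
-/

set_option autoImplicit false

namespace CfsgLib.HallNumber

open Subgroup
open scoped Pointwise

universe u

variable {G : Type u} [Group G] [Finite G]

/-- A nonsolvable group with Sylow `2`-subgroups of order four has a four-group as Sylow subgroup. -/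
theorem dihedral_two (P : Sylow 2 G) (hP : Nat.card (P : Subgroup G) = 4) (hns : ¬ Group.IsSolvable G) :
    Nonempty ((P : Subgroup G) ≃* DihedralGroup 2) := by
  classical
  have : Fact (Nat.Prime 2) := ⟨Nat.prime_two⟩
  have hK : IsKleinFour (P : Subgroup G) := CfsgLib.Transfer.klein_of_card_four hP fun hc => hns (by
    have h4 : 4 ∣ Nat.card G := hP ▸ card_subgroup_dvd_card _
    have hmin : (Nat.card G).minFac = 2 :=
      (Nat.minFac_eq_two_iff _).2 ((show (2 : ℕ) ∣ 4 by norm_num).trans h4)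
    have hcomp := IsCyclic.isComplement' hmin hc
    set K := (MonoidHom.transferSylow P (hc.normalizer_le_centralizer hmin)).ker
    have hidx : ¬ 2 ∣ (P : Subgroup G).index := P.not_dvd_index
    rw [hcomp.index_eq_card] at hidx
    refine solvable_ext K (solvable_odd (Nat.not_even_iff_odd.1 fun he => hidx he.two_dvd)) ?_
    have hq : Nat.card (G ⧸ K) = 2 ^ 2 := by
      rw [← Subgroup.index_eq_card, hcomp.symm.index_eq_card, hP]; norm_num
    have := (IsPGroup.of_card hq).isNilpotent
    infer_instance)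
  have := hK
  let e₀ : (P : Subgroup G) ≃ DihedralGroup 2 := (Finite.card_eq.1 (by
    rw [hP, DihedralGroup.nat_card])).some
  exact ⟨IsKleinFour.mulEquiv (e₀.trans (Equiv.swap (e₀ 1) 1)) (by simp)⟩

/-- The centre of `PSL(2, q)` is trivial. -/
theorem psl_center {F : Type} [Field F] [Fintype F] (hq : Odd (Fintype.card F)) :
    center (Matrix.ProjectiveSpecialLinearGroup (Fin 2) F) = ⊥ := by
  classical
  obtain ⟨j, hj⟩ := hq
  have h1 : 1 < Fintype.card F := Fintype.one_lt_card
  have hc := CfsgLib.Classical.Two.card_PSL_two (F := F)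
  by_cases h3 : Fintype.card F = 3
  · have hcard : 2 * Nat.card (Matrix.ProjectiveSpecialLinearGroup (Fin 2) F) = Nat.factorial 4 := by
      rw [h3] at hc
      norm_num at hc ⊢
      omega
    obtain ⟨e⟩ := CfsgLib.Classical.Two.psl_two_equiv_alternating (F := F) (by norm_num) (by rw [h3]) hcard
    refine (Subgroup.eq_bot_iff_forall _).2 fun x hx => ?_
    have h : e x ∈ center (alternatingGroup (Fin 4)) := mem_center_iff.2 fun g => by
      obtain ⟨y, rfl⟩ := e.surjective g
      rw [← map_mul, ← map_mul, mem_center_iff.1 hx y]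
    rw [alternatingGroup.center_eq_bot (by simp), mem_bot, MulEquiv.map_eq_one_iff] at h
    exact h
  have := CfsgLib.Classical.isSimpleGroup_PSL_two (F := F) (show 4 ≤ Fintype.card F by omega)
  refine (Normal.eq_bot_or_eq_top inferInstance).resolve_right fun ht => ?_
  let _ : CommGroup (Matrix.ProjectiveSpecialLinearGroup (Fin 2) F) :=
    { (inferInstance : Group (Matrix.ProjectiveSpecialLinearGroup (Fin 2) F)) with
      mul_comm := fun a b => mem_center_iff.1 (ht ▸ mem_top b) a }
  have hp := IsSimpleGroup.prime_card (α := Matrix.ProjectiveSpecialLinearGroup (Fin 2) F)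
  have hsq : Fintype.card F ^ 2 - 1 = 4 * (j * (j + 1)) := by
    rw [hj, show (2 * j + 1) ^ 2 = 4 * (j * (j + 1)) + 1 by ring]; omega
  obtain ⟨i, hi⟩ := Nat.even_mul_succ_self j
  rw [show Nat.gcd 2 (Fintype.card F - 1) = 2 from Nat.gcd_eq_left (by omega), hsq, hi] at hc
  have h4 : 4 ∣ Nat.card (Matrix.ProjectiveSpecialLinearGroup (Fin 2) F) :=
    ⟨Fintype.card F * i, Nat.eq_of_mul_eq_mul_left (show 0 < 2 by norm_num) (hc.trans (by ring))⟩
  exact absurd ((Nat.prime_dvd_prime_iff_eq Nat.prime_two hp).1 ((show (2 : ℕ) ∣ 4 by norm_num).trans h4))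
    (fun e => by rw [← e] at h4; norm_num at h4)

/-- The base case: trivial core. -/
theorem hall_sixty_base (gw : CfsgLib.GW.GWStatement.{u}) (hO : Cfsg.oddCore G = ⊥)
    (hdvd : 60 ∣ Nat.card G) (hcop : (60 : ℕ).Coprime (Nat.card G / 60)) :
    ∃ H : Subgroup G, Nat.card H = 60 := by
  classical
  have : Fact (Nat.Prime 2) := ⟨Nat.prime_two⟩
  by_cases hsolv : Group.IsSolvable G
  · exact hall_of_solvable_top hdvd hcop hsolv
  obtain ⟨P⟩ := (inferInstance : Nonempty (Sylow 2 G))
  have hP : Nat.card (P : Subgroup G) = 4 :=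
    card_sylow_two P (t := 2) (c := 15) (by norm_num) (by decide) hdvd hcop
  rcases CfsgLib.GW.Deps.Shapes.almost_simple gw hO P le_rfl (dihedral_two P hP hsolv) with
    h | ⟨F, _, _, hq, R, hR, ⟨e⟩⟩ | ⟨⟨e⟩⟩
  · exact absurd (by have := h.isNilpotent; infer_instance) hsolv
  swap
  · exfalso
    rw [Nat.card_congr e.toEquiv, nat_card_alternatingGroup, Nat.card_fin] at hcop
    norm_num [Nat.factorial] at hcop
  let L := Matrix.ProjectiveSpecialLinearGroup (Fin 2) F
  set c : L →* MulAut L := MulAut.conj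
  have hinj : Function.Injective c := by
    refine (injective_iff_map_eq_one c).2 fun x hx => ?_
    have hz : x ∈ center L := mem_center_iff.2 fun y => by
      have h' := congrArg (fun a : MulAut L => a y) hx
      simp only [c, MulAut.conj_apply, MulAut.one_apply, mul_inv_eq_iff_eq_mul] at h'
      exact h'.symm
    rwa [psl_center hq, mem_bot] at hz
  -- the image of `L` in `G`
  let ι : L →* G := e.symm.toMonoidHom.comp ((Subgroup.inclusion hR).comp (MonoidHom.ofInjective hinj).toMonoidHom)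
  have hι : Function.Injective ι :=
    e.symm.injective.comp ((Subgroup.inclusion_injective hR).comp (MonoidHom.ofInjective hinj).injective)
  by_cases h5 : 5 ∣ Nat.card L
  · have h' : 5 ∣ Fintype.card F * (Fintype.card F ^ 2 - 1) := by
      rw [← CfsgLib.Classical.Dickson.gcd_mul_card_psl (F := F) rfl]
      exact h5.mul_left _
    obtain ⟨H, ⟨eH⟩⟩ := (CfsgLib.Classical.Dickson.alt_five_iff (F := F) rfl).2 h'
    refine ⟨H.map ι, ?_⟩
    rw [card_map_of_injective hι, Nat.card_congr eH.toEquiv,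
      CfsgLib.Classical.Dickson.natCard_alt_five]
  -- five divides the normaliser of `P`
  set N := ι.range with hN
  have hNn : N.Normal := by
    have hn : (c.range.subgroupOf R).Normal := by
      refine ⟨fun x hx g => ?_⟩
      obtain ⟨y, hy⟩ := hx
      refine ⟨(g : MulAut L) y, ?_⟩
      rw [Subgroup.coe_subtype, Subgroup.coe_mul, Subgroup.coe_mul, Subgroup.coe_inv, ← show c y = (x : MulAut L) from hy]
      ext z
      show _ * z * _ = (g : MulAut L) (y * ((g : MulAut L)⁻¹ z) * y⁻¹)
      simp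
    have heq : N = (c.range.subgroupOf R).map e.symm.toMonoidHom := by
      ext g
      constructor
      · rintro ⟨y, rfl⟩
        exact ⟨Subgroup.inclusion hR (MonoidHom.ofInjective hinj y), ⟨y, rfl⟩, rfl⟩
      · rintro ⟨x, ⟨y, hy⟩, rfl⟩
        exact ⟨y, congrArg e.symm (Subtype.ext hy)⟩
    rw [heq]
    exact hn.map _ e.symm.surjective
  have hLcard : Nat.card N = Nat.card L := (Nat.card_congr (MonoidHom.ofInjective hι).toEquiv).symm
  have h4L : 4 ∣ Nat.card L := by
    have h2 := CfsgLib.Classical.Dickson.gcd_mul_card_psl (F := F) rfl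
    obtain ⟨k, hk⟩ := hq
    rw [hk] at h2
    have hg : Nat.gcd 2 (2 * k + 1 - 1) = 2 := Nat.gcd_eq_left (by omega)
    obtain ⟨j, hj⟩ := Nat.even_mul_succ_self k
    have hsq : (2 * k + 1) ^ 2 - 1 = 8 * j := by
      have : (2 * k + 1) ^ 2 = 4 * (k * (k + 1)) + 1 := by ring
      omega
    rw [hg, hsq] at h2
    refine Nat.dvd_of_mul_dvd_mul_left (show 0 < 2 by norm_num) ⟨(2 * k + 1) * j, ?_⟩
    rw [h2]; ring
  have hPN : (P : Subgroup G) ≤ N := by
    have h1 := N.card_mul_index
    obtain ⟨Q⟩ := (inferInstance : Nonempty (Sylow 2 N))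
    have hQ4 : 4 ∣ Nat.card (Q : Subgroup N) := by
      have := Q.pow_dvd_card_of_pow_dvd_card (n := 2) (by rw [hLcard]; exact_mod_cast h4L)
      simpa using this
    have hQp : IsPGroup 2 ((Q : Subgroup N).map N.subtype) := Q.2.map _
    obtain ⟨Q', hQ'⟩ := hQp.exists_le_sylow
    have hQ'c : Nat.card (Q' : Subgroup G) = 4 := by
      rw [← hP]; exact Nat.card_congr (Q'.equiv P).toEquiv
    have hQeq : (Q : Subgroup N).map N.subtype = (Q' : Subgroup G) := eq_of_le_of_card_ge hQ' (by
      rw [hQ'c, card_map_of_injective N.subtype_injective]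
      exact Nat.le_of_dvd Nat.card_pos hQ4)
    obtain ⟨g, hg⟩ := MulAction.exists_smul_eq G Q' P
    rw [← hg, Sylow.coe_subgroup_smul]
    rintro _ ⟨x, hx, rfl⟩
    have hxN : x ∈ N := map_subtype_le _ (hQeq.symm.le hx)
    simpa using hNn.conj_mem x hxN g
  have hf := Sylow.normalizer_sup_eq_top (P.subtype hPN)
  rw [show ((P.subtype hPN : Sylow 2 N) : Subgroup N).map N.subtype = (P : Subgroup G) from
    map_subgroupOf_eq_of_le hPN] at hf
  have hd : Nat.card G ∣ Nat.card (normalizer ((P : Subgroup G) : Set G)) * Nat.card N := by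
    have h1 := Subgroup.relIndex_sup_right (normalizer ((P : Subgroup G) : Set G)) N
    rw [hf, relIndex_top_right] at h1
    have h3' : N.relIndex (normalizer ((P : Subgroup G) : Set G)) ∣
        Nat.card (normalizer ((P : Subgroup G) : Set G)) :=
      Dvd.intro_left _ (N.subgroupOf (normalizer ((P : Subgroup G) : Set G))).card_mul_index
    rw [← N.card_mul_index, h1, mul_comm (Nat.card (normalizer ((P : Subgroup G) : Set G)))]
    exact Nat.mul_dvd_mul_left _ h3'
  have h5N : 5 ∣ Nat.card (normalizer ((P : Subgroup G) : Set G)) :=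
    ((Nat.Prime.dvd_mul (by norm_num)).1 (((show (5 : ℕ) ∣ 60 by norm_num).trans hdvd).trans hd)).resolve_right
      (by rwa [hLcard])
  rcases local_cases P (Or.inl hP) with h | ⟨S, hSP, hS4, hS, h⟩ | h
  · exact absurd h hsolv
  · obtain rfl : S = (P : Subgroup G) := eq_of_le_of_card_ge hSP (by rw [hP]; exact hS4)
    rw [hP] at h
    refine hall_of_solvable hdvd hcop _ hS ?_
    exact Nat.Coprime.mul_dvd_of_dvd_of_dvd (m := 12) (n := 5) (by norm_num) h h5N
  · exact absurd h.1 (by omega)

/-- `m = 60`. -/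
theorem hall_sixty (gw : CfsgLib.GW.GWStatement.{u}) (hdvd : 60 ∣ Nat.card G)
    (hcop : (60 : ℕ).Coprime (Nat.card G / 60)) : ∃ H : Subgroup G, Nat.card H = 60 := by
  classical
  have : Fact (Nat.Prime 2) := ⟨Nat.prime_two⟩
  by_cases hsolv : Group.IsSolvable G
  · exact hall_of_solvable_top hdvd hcop hsolv
  obtain ⟨P⟩ := (inferInstance : Nonempty (Sylow 2 G))
  have hP : Nat.card (P : Subgroup G) = 4 :=
    card_sylow_two P (t := 2) (c := 15) (by norm_num) (by decide) hdvd hcop
  set O := Cfsg.oddCore G with hO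
  have hOodd : Odd (Nat.card O) := CfsgLib.ZStar.odd_card_oddCore G
  have : O.Normal := by rw [hO]; unfold Cfsg.oddCore; infer_instance
  have hOsolv : Group.IsSolvable O := solvable_odd hOodd
  rcases local_cases P (Or.inl hP) with h | ⟨S, -, -, hS, h⟩ | h
  · exact absurd h hsolv
  swap
  · exact absurd h.1 (by omega)
  rw [hP] at h
  by_cases h5 : 5 ∣ Nat.card O
  · set X := normalizer (S : Set G)
    have hY : Group.IsSolvable (X ⊔ O : Subgroup G) := by
      refine solvable_ext (O.subgroupOf (X ⊔ O)) ?_ ?_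
      · exact Group.isSolvable_of_isSolvable_injective
          (f := (subgroupOfEquivOfLe (le_sup_right : O ≤ X ⊔ O)).toMonoidHom) (MulEquiv.injective _)
      · refine Group.isSolvable_of_surjective
          (f := (QuotientGroup.mk' (O.subgroupOf (X ⊔ O))).comp (Subgroup.inclusion le_sup_left)) ?_
        intro y
        obtain ⟨⟨z, hz⟩, rfl⟩ := QuotientGroup.mk'_surjective _ y
        have hz' : z ∈ ((X : Set G) * (O : Set G)) := by
          rw [← Subgroup.coe_mul_of_left_le_normalizer_right X O (by rw [normalizer_eq_top]; exact le_top)]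
          exact hz
        obtain ⟨a, ha, b, hb, rfl⟩ := hz'
        refine ⟨⟨a, ha⟩, QuotientGroup.eq.2 ?_⟩
        show a⁻¹ * (a * b) ∈ O
        rw [inv_mul_cancel_left]; exact hb
    refine hall_of_solvable hdvd hcop _ hY ?_
    exact Nat.Coprime.mul_dvd_of_dvd_of_dvd (m := 12) (n := 5) (by norm_num)
      (h.trans (card_dvd_of_le le_sup_left)) (h5.trans (card_dvd_of_le le_sup_right))
  by_cases h3 : 3 ∣ Nat.card O
  · exfalso
    refine hsolv (solvable_ext O hOsolv ?_)
    obtain ⟨k, hk⟩ := hdvd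
    rw [hk, Nat.mul_div_cancel_left _ (by norm_num)] at hcop
    obtain ⟨Q⟩ := (inferInstance : Nonempty (Sylow 2 (G ⧸ O)))
    have h1 := O.card_mul_index
    rw [index_eq_card] at h1
    have hQ : Nat.card (Q : Subgroup (G ⧸ O)) = 4 := by
      rw [Q.card_eq_multiplicity, ← hP, P.card_eq_multiplicity, ← h1,
        Nat.factorization_mul Nat.card_pos.ne' Nat.card_pos.ne', Finsupp.add_apply,
        Nat.factorization_eq_zero_of_not_dvd (n := Nat.card O)
          (fun h2 => Nat.not_even_iff_odd.2 hOodd (even_iff_two_dvd.2 h2)), zero_add]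
    rcases local_cases Q (Or.inl hQ) with h' | ⟨S', -, -, -, h'⟩ | h'
    · exact h'
    · exfalso
      rw [hQ] at h'
      have h3q : 3 ∣ Nat.card (G ⧸ O) :=
        ((show (3 : ℕ) ∣ 3 * 4 by norm_num).trans h').trans (card_subgroup_dvd_card _)
      have h9 : 9 ∣ 60 * k := by rw [← hk, ← h1]; exact Nat.mul_dvd_mul h3 h3q
      have h3k : 3 ∣ k := by omega
      exact absurd (Nat.eq_one_of_dvd_coprimes hcop (by norm_num) h3k) (by norm_num)
    · exact absurd h'.1 (by omega)
  · have hN : (Nat.card O).Coprime 60 := by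
      rw [show (60 : ℕ) = 2 ^ 2 * (3 * 5) by norm_num]
      exact Nat.Coprime.mul_right ((Nat.coprime_two_right.2 hOodd).pow_right 2)
        (Nat.Coprime.mul_right ((Nat.Prime.coprime_iff_not_dvd Nat.prime_three).2 h3).symm
          ((Nat.Prime.coprime_iff_not_dvd (by norm_num)).2 h5).symm)
    obtain ⟨q1, q2⟩ := quotient_hyps O hN hdvd hcop
    exact hall_of_quotient O hN (hall_sixty_base gw
      (CfsgLib.Core.pPrimeCore_quotient_pPrimeCore 2 G) q1 q2)

/-- The theorem. -/
theorem main (gw : CfsgLib.GW.GWStatement.{0}) (m : ℕ) (hm : 2 ≤ m) :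
    (∀ (G : Type) [Group G] [Finite G], m ∣ Nat.card G → m.Coprime (Nat.card G / m) →
        ∃ H : Subgroup G, Nat.card H = m) ↔
    (IsPrimePow m ∨ m % 4 = 2 ∨ m = 12 ∨ m = 24 ∨ m = 60) := by
  refine ⟨forward hm, ?_⟩
  rintro (⟨p, k, hp, hk, rfl⟩ | h | rfl | rfl | rfl) G _ _ hdvd hcop
  · have : Fact p.Prime := ⟨Nat.prime_iff.2 hp⟩
    exact Sylow.exists_subgroup_card_pow_prime p hdvd
  · refine hall_of_solvable_top hdvd hcop (solvable_of_not_four_dvd fun h4 => ?_)
    obtain ⟨k, hk⟩ := hdvd
    rw [hk, Nat.mul_div_cancel_left _ (by omega)] at hcop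
    rcases (Nat.Prime.dvd_mul Nat.prime_two).1 ((show (2 : ℕ) ∣ 4 by norm_num).trans (hk ▸ h4)) with h2 | h2
    · have hko : ¬ 2 ∣ k := fun h2k => absurd (Nat.eq_one_of_dvd_coprimes hcop h2 h2k) (by norm_num)
      have h4m : 4 ∣ m := (Nat.Coprime.pow_left 2 ((Nat.Prime.coprime_iff_not_dvd Nat.prime_two).2 hko)).dvd_of_dvd_mul_right (hk ▸ h4)
      omega
    · exact absurd (Nat.eq_one_of_dvd_coprimes hcop (show 2 ∣ m by omega) h2) (by norm_num)
  · exact hall_twelve hdvd hcop
  · exact hall_twentyFour hdvd hcop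
  · exact hall_sixty gw hdvd hcop

end CfsgLib.HallNumber
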