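import Cfsg.Agent.Lib.HallNumber.EightSeven
import Mathlib.GroupTheory.SchurZassenhaus

/-!
# `m = 24`
-/

set_option autoImplicit false

namespace CfsgLib.HallNumber

open Subgroup CfsgLib.Classical.TwoType
open scoped Pointwise

universe u

variable {G : Type u} [Group G] [Finite G]

/-- A normal subgroup of order prime to `m` can be removed. -/
theorem hall_of_quotient {m : ℕ} (N : Subgroup G) [N.Normal] (hN : (Nat.card N).Coprime m)
    (h : ∃ H : Subgroup (G ⧸ N), Nat.card H = m) : ∃ H : Subgroup G, Nat.card H = m := by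
  obtain ⟨H, hH⟩ := h
  set X := H.comap (QuotientGroup.mk' N) with hX
  have hNX : N ≤ X := fun x hx => by
    rw [hX, mem_comap, show QuotientGroup.mk' N x = 1 from (QuotientGroup.eq_one_iff x).2 hx]
    exact one_mem H
  have hcard : Nat.card X = Nat.card N * m := by
    have h1 := (N.subgroupOf X).card_mul_index
    rw [Nat.card_congr (subgroupOfEquivOfLe hNX).toEquiv] at h1
    rw [← h1]
    congr 1
    have h2 := Subgroup.relIndex_comap (⊥ : Subgroup (G ⧸ N)) (QuotientGroup.mk' N) X
    rw [MonoidHom.comap_bot, QuotientGroup.ker_mk', map_comap_eq_self_of_surjective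
      (QuotientGroup.mk'_surjective N), relIndex_bot_left] at h2
    rw [← hH, ← h2]
    rfl
  have hidx : (N.subgroupOf X).index = m := by
    have h1 := (N.subgroupOf X).card_mul_index
    rw [Nat.card_congr (subgroupOfEquivOfLe hNX).toEquiv, hcard] at h1
    exact Nat.eq_of_mul_eq_mul_left Nat.card_pos h1
  obtain ⟨K, hK⟩ := exists_right_complement'_of_coprime (N := N.subgroupOf X) (by
    rw [hidx, Nat.card_congr (subgroupOfEquivOfLe hNX).toEquiv]; exact hN)
  refine ⟨K.map X.subtype, ?_⟩
  rw [card_map_of_injective X.subtype_injective, ← hidx]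
  exact (hK.symm.index_eq_card).symm

/-- The quotient by a normal subgroup of order prime to `m`. -/
theorem quotient_hyps {m : ℕ} (N : Subgroup G) [N.Normal] (hN : (Nat.card N).Coprime m)
    (hdvd : m ∣ Nat.card G) (hcop : m.Coprime (Nat.card G / m)) :
    m ∣ Nat.card (G ⧸ N) ∧ m.Coprime (Nat.card (G ⧸ N) / m) := by
  have h1 := N.card_mul_index
  rw [index_eq_card] at h1
  have h2 : m ∣ Nat.card (G ⧸ N) := hN.symm.dvd_of_dvd_mul_left (h1 ▸ hdvd)
  refine ⟨h2, hcop.coprime_dvd_right ?_⟩
  rw [← h1, Nat.mul_div_assoc _ h2]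
  exact dvd_mul_left _ _

/-- A subgroup inherits the hypotheses. -/
theorem subgroup_hyps {m : ℕ} (X : Subgroup G) (hdvd : m ∣ Nat.card G)
    (hcop : m.Coprime (Nat.card G / m)) (hX : m ∣ Nat.card X) :
    m.Coprime (Nat.card X / m) := by
  refine hcop.coprime_dvd_right ?_
  obtain ⟨k, hk⟩ := card_subgroup_dvd_card X
  rw [hk, Nat.mul_comm, Nat.mul_div_assoc _ hX]
  exact dvd_mul_left _ _

/-- An element of odd order centralising a subgroup of the Sylow `2`-subgroup. -/
theorem not_dvd_seven_eleven (n : ℕ) (hn : n ∣ 264) (h7 : n % 7 = 1) : n = 1 ∨ n = 8 ∨ n = 22 := by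
  have : n ≤ 264 := Nat.le_of_dvd (by norm_num) hn
  have h : ∀ k ∈ Nat.divisors 264, k % 7 = 1 → k = 1 ∨ k = 8 ∨ k = 22 := by decide
  exact h n (Nat.mem_divisors.2 ⟨hn, by norm_num⟩) h7

variable {P : Sylow 2 G}

/-- No simple group has order `1848` and self-centralising involutions of the configuration. -/
theorem false_of_1848 [IsSimpleGroup G] (h : SevenAction P) (hcard : Nat.card G = 1848)
    (hC : ∀ t ∈ (P : Subgroup G), t ≠ 1 → centralizer ({t} : Set G) ≤ (P : Subgroup G)) : False := by
  have : Fact (Nat.Prime 7) := ⟨by norm_num⟩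
  have := Fintype.ofFinite G
  obtain ⟨Q⟩ := (inferInstance : Nonempty (Sylow 7 G))
  have hQ7 : Nat.card (Q : Subgroup G) = 7 := by
    rw [Q.card_eq_multiplicity, hcard]
    have h2 : (1848 : ℕ) = 7 * 264 := by norm_num
    rw [h2, Nat.factorization_mul (by norm_num) (by norm_num), Finsupp.add_apply,
      (show Nat.Prime 7 by norm_num).factorization_self,
      Nat.factorization_eq_zero_of_not_dvd (by norm_num), add_zero, pow_one]
  set N := normalizer ((Q : Subgroup G) : Set G) with hNdef
  have hn7 : N.index % 7 = 1 := by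
    have := card_sylow_modEq_one 7 G
    rwa [Q.card_eq_index_normalizer] at this
  have hn264 : N.index ∣ 264 := by
    have h1 := Subgroup.index_dvd_of_le (le_normalizer (H := (Q : Subgroup G)))
    have h2 := (Q : Subgroup G).card_mul_index
    rw [hQ7, hcard] at h2
    rwa [show (Q : Subgroup G).index = 264 by omega] at h1
  have hN := N.card_mul_index
  rw [hcard] at hN
  rcases not_dvd_seven_eleven _ hn264 hn7 with e | e | e
  · have htop : N = ⊤ := index_eq_one.1 e
    have : (Q : Subgroup G).Normal := normalizer_eq_top_iff.1 htop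
    rcases IsSimpleGroup.eq_bot_or_eq_top_of_normal _ this with hb | hb
    · rw [hb, card_bot] at hQ7; omega
    · rw [hb, card_top, hcard] at hQ7; omega
  · have hcore : N.normalCore = ⊥ :=
      (IsSimpleGroup.eq_bot_or_eq_top_of_normal _ N.normalCore_normal).resolve_right fun ht => by
        have := top_le_iff.1 (ht ▸ N.normalCore_le)
        rw [this, index_top] at e; omega
    have hinj : Function.Injective (MulAction.toPermHom G (G ⧸ N)) := by
      rw [← MonoidHom.ker_eq_bot_iff, ← normalCore_eq_ker, hcore]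
    have hd := card_dvd_of_injective _ hinj
    rw [hcard, Nat.card_perm, ← index_eq_card, e] at hd
    exact absurd hd (by decide)
  · rw [e] at hN
    have hN84 : Nat.card N = 84 := by omega
    set φ := (Q : Subgroup G).normalizerMonoidHom
    have : IsCyclic (Q : Subgroup G) := isCyclic_of_prime_card hQ7
    have haut : Nat.card (MulAut (Q : Subgroup G)) = 6 := by
      rw [IsCyclic.card_mulAut, hQ7]; rfl
    have hk := φ.ker.card_mul_index
    rw [Subgroup.index_ker] at hk
    have hr : Nat.card φ.range ∣ 6 := haut ▸ card_subgroup_dvd_card _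
    have h2 : 2 ∣ Nat.card φ.ker := by
      have h12 : Nat.card φ.range ≤ 6 := Nat.le_of_dvd (by norm_num) hr
      have hNc : Nat.card (normalizer ((Q : Subgroup G) : Set G)) = 84 := hN84
      rw [hNc] at hk
      interval_cases hx : Nat.card φ.range <;> omega
    have : Fact (Nat.Prime 2) := ⟨Nat.prime_two⟩
    obtain ⟨⟨⟨x, hxN⟩, hxk⟩, hx2⟩ := exists_prime_orderOf_dvd_card' 2 h2
    rw [orderOf_mk, orderOf_mk] at hx2
    rw [Subgroup.normalizerMonoidHom_ker] at hxk
    have hxC : x ∈ centralizer ((Q : Subgroup G) : Set G) := hxk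
    obtain ⟨S, hS⟩ := (IsPGroup.of_card (n := 1) (by rw [Nat.card_zpowers, hx2, pow_one]) :
      IsPGroup 2 (zpowers x)).exists_le_sylow
    obtain ⟨c, hc⟩ := MulAction.exists_smul_eq G S P
    have hcx : c * x * c⁻¹ ∈ (P : Subgroup G) := by
      rw [← hc, Sylow.coe_subgroup_smul]
      exact ⟨x, hS (mem_zpowers x), by simp⟩
    have hcx1 : c * x * c⁻¹ ≠ 1 := fun e1 => by
      rw [conj_eq_one_iff.1 e1, orderOf_one] at hx2; omega
    have hle : (Q : Subgroup G).map (MulAut.conj c).toMonoidHom ≤ (P : Subgroup G) := by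
      rintro _ ⟨q, hq, rfl⟩
      refine hC _ hcx hcx1 (mem_centralizer_singleton_iff.2 ?_)
      have hqx : q * x = x * q := mem_centralizer_iff.1 hxC q hq
      show c * q * c⁻¹ * (c * x * c⁻¹) = c * x * c⁻¹ * (c * q * c⁻¹)
      calc c * q * c⁻¹ * (c * x * c⁻¹) = c * (q * x) * c⁻¹ := by group
        _ = c * (x * q) * c⁻¹ := by rw [hqx]
        _ = _ := by group
    have := card_dvd_of_le hle
    rw [card_map_of_injective (f := (MulAut.conj c).toMonoidHom) (MulAut.conj c).injective, hQ7, h.1] at this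
    norm_num at this

/-- A proper subgroup of order prime to three containing all the local subgroups. -/
theorem exists_host [IsSimpleGroup G] (h : SevenAction P) (hnP : ¬ (P : Subgroup G).Normal) :
    ∃ M : Subgroup G, M ≠ ⊤ ∧ normalizer ((P : Subgroup G) : Set G) ≤ M ∧
      (∀ t ∈ (P : Subgroup G), t ≠ 1 → centralizer ({t} : Set G) ≤ M) ∧
      M.index < 48 ∧
      ((∀ t ∈ (P : Subgroup G), t ≠ 1 → oC t = ⊥) → M = normalizer ((P : Subgroup G) : Set G)) := by
  classical
  have := Fintype.ofFinite G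
  have : Fact (Nat.Prime 2) := ⟨Nat.prime_two⟩
  obtain ⟨Mid, hMid⟩ := CfsgLib.ZStar.exists_isPModular (p := 2) Nat.prime_two
  have := hMid.2.1
  obtain ⟨W, hW, hNW, hfix, hk, hbot⟩ := h.cores
  set N := normalizer ((P : Subgroup G) : Set G) with hNdef
  have hlt := h.card_lt hMid hW hNW hfix hk
  set M := if W = ⊥ then N else normalizer (W : Set G) with hMdef
  have hNM : N ≤ M := by rw [hMdef]; split_ifs; exacts [le_rfl, hNW]
  have hWM : W ≤ M := by
    rw [hMdef]; split_ifs with e
    · rw [e]; exact bot_le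
    · exact le_normalizer
  have hMne : M ≠ ⊤ := by
    rw [hMdef]; split_ifs with e
    · exact fun ht => hnP (normalizer_eq_top_iff.1 ht)
    · intro ht
      have : W.Normal := normalizer_eq_top_iff.1 ht
      rcases IsSimpleGroup.eq_bot_or_eq_top_of_normal W this with hb | hb
      · exact e hb
      · rw [hb, card_top] at hW
        have h2 : 2 ∣ Nat.card G := (show (2 : ℕ) ∣ Nat.card (P : Subgroup G) by
          rw [h.1]; norm_num).trans (card_subgroup_dvd_card _)
        exact Nat.not_even_iff_odd.2 hW (even_iff_two_dvd.2 h2)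
  have hcent : ∀ t ∈ (P : Subgroup G), t ≠ 1 → centralizer ({t} : Set G) ≤ M := by
    intro t ht ht1 x hx
    obtain ⟨f, hf, hiff, -⟩ := h.split ht ht1
    set v := f ⟨x, hx⟩
    have hvC : (v : G) ∈ centralizer ({t} : Set G) :=
      mem_centralizer_singleton_iff.2 (h.comm v.2 ht)
    have hm : x * (v : G)⁻¹ ∈ oC t :=
      (hiff ⟨_, mul_mem hx (inv_mem hvC)⟩).1 (by
        rw [show (⟨_, mul_mem hx (inv_mem hvC)⟩ : centralizer ({t} : Set G)) =
          ⟨x, hx⟩ * ⟨v, hvC⟩⁻¹ from rfl, map_mul, map_inv, hf ⟨v, hvC⟩ v.2]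
        exact mul_inv_cancel v)
    have := mul_mem (hWM ((hfix t ht ht1).1 hm)) (hNM (le_normalizer v.2))
    rwa [inv_mul_cancel_right] at this
  refine ⟨M, hMne, hNM, hcent, ?_, fun hb => by rw [hMdef, if_pos (hbot hb)]⟩
  -- 56 |W| ≤ |M|
  have hPW : Nat.card ((P : Subgroup G) ⊔ W : Subgroup G) = 8 * Nat.card W := by
    rw [CfsgLib.Core.card_sup_of_coprime _ _ (le_normalizer.trans hNW)
      (by rw [h.1]; exact (Nat.coprime_two_left.2 hW).pow_left 3), h.1]
  set X := (P : Subgroup G) ⊔ W
  have hXM : X ≤ M := sup_le (le_normalizer.trans hNM) hWM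
  have h7 : 7 ≤ X.relIndex M := by
    obtain ⟨⟨t, ht⟩, ht2⟩ := exists_prime_orderOf_dvd_card' (G := (P : Subgroup G)) 2 (by rw [h.1]; norm_num)
    rw [orderOf_mk] at ht2
    have ht1 : t ≠ 1 := fun e => by rw [e, orderOf_one] at ht2; omega
    choose g hg hgt using fun y : {y : G // y ∈ (P : Subgroup G) ∧ y ≠ 1} =>
      h.2.2.2 t ht ht1 y y.2.1 y.2.2
    let Ψ : {y : G // y ∈ (P : Subgroup G) ∧ y ≠ 1} → M ⧸ X.subgroupOf M :=
      fun y => QuotientGroup.mk ⟨g y, hNM (hg y)⟩
    have hinj : Function.Injective Ψ := by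
      intro y z e
      have e0 : (⟨g y, hNM (hg y)⟩ : M)⁻¹ * ⟨g z, hNM (hg z)⟩ ∈ X.subgroupOf M := QuotientGroup.eq.1 e
      have e1 : (g y)⁻¹ * g z ∈ X := e0
      have e2 : (g y)⁻¹ * g z ∈ N := mul_mem (inv_mem (hg y)) (hg z)
      obtain ⟨p, hp, w, hw, hpw⟩ : ∃ p ∈ (P : Subgroup G), ∃ w ∈ W, p * w = (g y)⁻¹ * g z := by
        have hs : ((g y)⁻¹ * g z) ∈ ((P : Subgroup G) : Set G) * (W : Set G) := by
          rw [← Subgroup.coe_mul_of_left_le_normalizer_right _ _ (le_normalizer.trans hNW)]
          exact e1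
        exact hs
      have hwN : w ∈ N := by
        have h' := mul_mem (inv_mem (show p ∈ N from le_normalizer hp)) e2
        rwa [← hpw, inv_mul_cancel_left] at h'
      have hcom : t * w * t⁻¹ * w⁻¹ ∈ (P : Subgroup G) ⊓ W := by
        refine mem_inf.2 ⟨?_, mul_mem ((mem_normalizer_iff.1 (hNW (le_normalizer ht)) w).1 hw) (inv_mem hw)⟩
        rw [show t * w * t⁻¹ * w⁻¹ = t * (w * t⁻¹ * w⁻¹) by group]
        exact mul_mem ht ((mem_normalizer_iff.1 hwN _).1 (inv_mem ht))
      rw [inf_eq_bot_of_coprime (by rw [h.1]; exact (Nat.coprime_two_left.2 hW).pow_left 3), mem_bot,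
        mul_inv_eq_one, mul_inv_eq_iff_eq_mul] at hcom
      have hn : g z = g y * (p * w) := by rw [hpw, mul_inv_cancel_left]
      refine Subtype.ext ?_
      rw [← hgt y, ← hgt z, hn,
        show g y * (p * w) * t * (g y * (p * w))⁻¹ = g y * (p * (w * t) * w⁻¹ * p⁻¹) * (g y)⁻¹ by group,
        ← hcom, show p * (t * w) * w⁻¹ * p⁻¹ = p * t * p⁻¹ by group, h.comm hp ht, mul_inv_cancel_right]
    have h7' := Nat.card_le_card_of_injective Ψ hinj
    have hY : Nat.card {y : G // y ∈ (P : Subgroup G) ∧ y ≠ 1} = 7 := by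
      change Nat.card {y : G | y ∈ (P : Subgroup G) ∧ y ≠ 1} = 7
      rw [show {y : G | y ∈ (P : Subgroup G) ∧ y ≠ 1} = ((P : Subgroup G) : Set G) \ {1} from rfl,
        Nat.card_coe_set_eq, Set.ncard_sdiff (Set.singleton_subset_iff.2 (one_mem _)),
        Set.ncard_singleton, ← Nat.card_coe_set_eq,
        show Nat.card ((P : Subgroup G) : Set G) = Nat.card (P : Subgroup G) from rfl, h.1]
    rw [hY, ← index_eq_card] at h7'
    exact h7'
  have hMge : 56 * Nat.card W ≤ Nat.card M := by
    have h1 := (X.subgroupOf M).card_mul_index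
    rw [Nat.card_congr (subgroupOfEquivOfLe hXM).toEquiv, hPW] at h1
    change 8 * Nat.card W * X.relIndex M = Nat.card M at h1
    rw [← h1]
    calc 56 * Nat.card W = 8 * Nat.card W * 7 := by ring
      _ ≤ _ := Nat.mul_le_mul_left _ h7
  have hMi := M.card_mul_index
  by_contra hcon
  push Not at hcon
  have := Nat.mul_le_mul hMge hcon
  rw [hMi] at this
  omega

/-- Conjugates of a strongly embedded host meet in odd subgroups. -/
theorem fixes_one (h : SevenAction P) {M : Subgroup G} (hNM : normalizer ((P : Subgroup G) : Set G) ≤ M)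
    (hC : ∀ t ∈ (P : Subgroup G), t ≠ 1 → centralizer ({t} : Set G) ≤ M) {u g : G}
    (hu : u ∈ (P : Subgroup G)) (hu1 : u ≠ 1) (hfix : g⁻¹ * u * g ∈ M) : g ∈ M := by
  have : Fact (Nat.Prime 2) := ⟨Nat.prime_two⟩
  have := Fintype.ofFinite G
  set w : M := ⟨g⁻¹ * u * g, hfix⟩
  have hw2 : orderOf w = 2 := by
    rw [← orderOf_coe, show (w : G) = g⁻¹ * u * g from rfl,
      show g⁻¹ * u * g = MulAut.conj g⁻¹ u by simp, MulEquiv.orderOf_eq, h.orderOf_two hu hu1]
  let P' : Sylow 2 M := P.subtype (le_normalizer.trans hNM)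
  obtain ⟨Q, hQ⟩ := (IsPGroup.of_card (n := 1) (by rw [Nat.card_zpowers, hw2, pow_one]) :
    IsPGroup 2 (zpowers w)).exists_le_sylow
  obtain ⟨m, hm⟩ := MulAction.exists_smul_eq M Q P'
  have hmem : (m : G) * (g⁻¹ * u * g) * (m : G)⁻¹ ∈ (P : Subgroup G) := by
    have h' : m * w * m⁻¹ ∈ (P' : Subgroup M) := by
      rw [← hm, Sylow.coe_subgroup_smul]
      exact ⟨w, hQ (mem_zpowers w), by simp⟩
    exact h'
  have hne : (m : G) * (g⁻¹ * u * g) * (m : G)⁻¹ ≠ 1 := fun e => hu1 (by
    rw [show u = g * (g⁻¹ * u * g) * g⁻¹ by group, conj_eq_one_iff.1 e, mul_one, mul_inv_cancel])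
  obtain ⟨n, hn, hn'⟩ := h.2.2.2 _ hmem hne u hu hu1
  have hx : n * m * g⁻¹ ∈ centralizer ({u} : Set G) := by
    rw [mem_centralizer_singleton_iff]
    conv_rhs => rw [← hn']
    group
  have h1 := hC u hu hu1 hx
  have h2 : g⁻¹ ∈ M := by
    have h3 := mul_mem (inv_mem (mul_mem (hNM hn) m.2)) h1
    rwa [inv_mul_cancel_left] at h3
  exact inv_mem_iff.1 h2

/-- The configuration does not occur in simple groups in which three divides the order once. -/
theorem false_of_simple_seven [IsSimpleGroup G] (h : SevenAction P) (h3 : 3 ∣ Nat.card G)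
    (h9 : ¬ 9 ∣ Nat.card G)
    (hsub : ∀ M : Subgroup G, M ≠ ⊤ → (P : Subgroup G) ≤ M → ¬ 3 ∣ Nat.card M) : False := by
  classical
  have : Fact (Nat.Prime 2) := ⟨Nat.prime_two⟩
  have := Fintype.ofFinite G
  have hnP : ¬ (P : Subgroup G).Normal := fun hn => by
    rcases IsSimpleGroup.eq_bot_or_eq_top_of_normal _ hn with e | e
    · have := h.1; rw [e, card_bot] at this; omega
    · have := h.1
      rw [e, card_top] at this
      rw [this] at h3
      norm_num at h3
  obtain ⟨M, hMne, hNM, hC, h48, hMN⟩ := exists_host h hnP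
  have hPM : (P : Subgroup G) ≤ M := le_normalizer.trans hNM
  have hM3 := hsub M hMne hPM
  have hcore : M.normalCore = ⊥ :=
    (IsSimpleGroup.eq_bot_or_eq_top_of_normal _ M.normalCore_normal).resolve_right fun ht =>
      hMne (top_le_iff.1 (ht ▸ M.normalCore_le))
  -- orbits of a centraliser on the cosets of the host
  have key : ∀ t ∈ (P : Subgroup G), t ≠ 1 → ∀ x : G ⧸ M, x ≠ ((1 : G) : G ⧸ M) →
      ∃ d, Nat.card (MulAction.orbit (centralizer ({t} : Set G)) x) = 8 * d ∧
        d ∣ Nat.card (oC t) ∧ (d = 1 → ∀ y ∈ oC t, y • x = x) := by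
    intro t ht ht1 x hx
    have := Fintype.ofFinite G
    obtain ⟨f, hf, hiff, -, hidx, hcard⟩ := h.split ht ht1
    have hle : MulAction.stabilizer (centralizer ({t} : Set G)) x ≤ f.ker := by
      intro c hc
      by_contra hcker
      obtain ⟨g, rfl⟩ := QuotientGroup.mk_surjective x
      have hv : (f c : G) ≠ 1 := fun e => hcker (Subtype.ext e)
      have hvC : (f c : G) ∈ centralizer ({t} : Set G) :=
        mem_centralizer_singleton_iff.2 (h.comm (f c).2 ht)
      -- `c` has even order
      have h2 : 2 ∣ orderOf c := by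
        by_contra hodd
        have h1 := orderOf_map_dvd f c
        have h8 : orderOf (f c) ∣ 2 ^ 3 := by
          rw [show 2 ^ 3 = Nat.card (P : Subgroup G) by rw [h.1]; norm_num]
          exact orderOf_dvd_natCard _
        exact hv (congrArg Subtype.val (orderOf_eq_one_iff.1 (Nat.eq_one_of_dvd_coprimes
          (((Nat.Prime.coprime_iff_not_dvd Nat.prime_two).2 hodd).pow_left 3) h8 h1)))
      obtain ⟨s, hs⟩ := h2
      have hs0 : s ≠ 0 := fun e => by rw [e, mul_zero] at hs; exact (orderOf_pos c).ne' hs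
      have hw2 : orderOf ((c : G) ^ s) = 2 := by
        rw [orderOf_pow' _ hs0, orderOf_coe, hs, Nat.gcd_mul_left_left,
          Nat.mul_div_cancel _ (Nat.pos_of_ne_zero hs0)]
      have hwx : (c ^ s) • (QuotientGroup.mk g : G ⧸ M) = QuotientGroup.mk g :=
        MulAction.mem_stabilizer_iff.1 (pow_mem hc s)
      have hgm : g⁻¹ * (c : G) ^ s * g ∈ M := by
        have h' : ((((c : G) ^ s) * g : G) : G ⧸ M) = (g : G ⧸ M) := hwx
        have h'' := QuotientGroup.eq.1 h'.symm
        rwa [← mul_assoc] at h''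
      obtain ⟨Q, hQ⟩ := (IsPGroup.of_card (n := 1) (by rw [Nat.card_zpowers, hw2, pow_one]) :
        IsPGroup 2 (zpowers ((c : G) ^ s))).exists_le_sylow
      let Pc : Sylow 2 (centralizer ({t} : Set G)) := P.subtype fun a ha =>
        mem_centralizer_singleton_iff.2 (h.comm ha ht)
      have hwc : orderOf (c ^ s) = 2 := by rw [← orderOf_coe, coe_pow, hw2]
      obtain ⟨Q', hQ'⟩ := (IsPGroup.of_card (n := 1) (by rw [Nat.card_zpowers, hwc, pow_one]) :
        IsPGroup 2 (zpowers (c ^ s))).exists_le_sylow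
      obtain ⟨k, hk⟩ := MulAction.exists_smul_eq (centralizer ({t} : Set G)) Q' Pc
      have hu : (k : G) * (c : G) ^ s * (k : G)⁻¹ ∈ (P : Subgroup G) := by
        have h' : k * c ^ s * k⁻¹ ∈ (Pc : Subgroup (centralizer ({t} : Set G))) := by
          rw [← hk, Sylow.coe_subgroup_smul]
          exact ⟨c ^ s, hQ' (mem_zpowers _), by simp⟩
        exact h'
      have hu1 : (k : G) * (c : G) ^ s * (k : G)⁻¹ ≠ 1 := fun e => by
        rw [conj_eq_one_iff.1 e, orderOf_one] at hw2; omega
      have hkg : (k : G) * g ∈ M := fixes_one h hNM hC hu hu1 (by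
        rw [show ((k : G) * g)⁻¹ * ((k : G) * (c : G) ^ s * (k : G)⁻¹) * ((k : G) * g) =
          g⁻¹ * (c : G) ^ s * g by group]
        exact hgm)
      have hg : g ∈ M := by
        have h3 := mul_mem (inv_mem (hC t ht ht1 k.2)) hkg
        rwa [inv_mul_cancel_left] at h3
      exact hx (QuotientGroup.eq.2 (by simpa using hg))
    refine ⟨(MulAction.stabilizer (centralizer ({t} : Set G)) x).relIndex f.ker, ?_,
      hcard ▸ Dvd.intro_left _ ((MulAction.stabilizer _ x).subgroupOf f.ker).card_mul_index,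
      fun hd y hy => ?_⟩
    · rw [Nat.card_coe_set_eq, ← MulAction.index_stabilizer, ← relIndex_mul_index hle, hidx]; ring
    · have hkle : f.ker ≤ MulAction.stabilizer (centralizer ({t} : Set G)) x := relIndex_eq_one.1 hd
      exact MulAction.mem_stabilizer_iff.1 (hkle ((hiff ⟨y, oC_le t hy⟩).2 hy : ⟨y, oC_le t hy⟩ ∈ f.ker))
  -- the degree
  obtain ⟨⟨t, ht⟩, ht2⟩ := exists_prime_orderOf_dvd_card' (G := (P : Subgroup G)) 2 (by rw [h.1]; norm_num)
  rw [orderOf_mk] at ht2
  have ht1 : t ≠ 1 := fun e => by rw [e, orderOf_one] at ht2; omega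
  set C := centralizer ({t} : Set G)
  set Ω := MulAction.orbitRel.Quotient C (G ⧸ M)
  have := Fintype.ofFinite Ω
  have hdeg : M.index = ∑ ω : Ω, Nat.card (MulAction.orbit C ω.out) := by
    rw [index_eq_card, Nat.card_congr (MulAction.selfEquivSigmaOrbits C (G ⧸ M)), Nat.card_sigma]
  set ω₀ : Ω := Quotient.mk'' ((1 : G) : G ⧸ M)
  have hbase : ∀ ω : Ω, ω ≠ ω₀ → ω.out ≠ ((1 : G) : G ⧸ M) := fun ω hω e => hω (by
    rw [← Quotient.out_eq' ω, e])
  have h0 : Nat.card (MulAction.orbit C ω₀.out) = 1 := by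
    have hfixed : ∀ c : C, c • ((1 : G) : G ⧸ M) = ((1 : G) : G ⧸ M) := fun c =>
      QuotientGroup.eq.2 (by simpa using hC t ht ht1 c.2)
    have heq : ω₀.out = ((1 : G) : G ⧸ M) := by
      have h' : (Quotient.mk'' ω₀.out : Ω) = ω₀ := Quotient.out_eq' ω₀
      obtain ⟨c, hc⟩ : ω₀.out ∈ MulAction.orbit C ((1 : G) : G ⧸ M) :=
        MulAction.orbitRel_apply.1 (Quotient.eq''.1 h')
      rw [← hc]; exact hfixed c
    rw [heq, Nat.card_eq_one_iff_unique]
    refine ⟨⟨fun a b => ?_⟩, ⟨⟨_, MulAction.mem_orbit_self _⟩⟩⟩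
    obtain ⟨a, ca, rfl⟩ := a
    obtain ⟨b, cb, rfl⟩ := b
    exact Subtype.ext ((hfixed ca).trans (hfixed cb).symm)
  rw [← Finset.add_sum_erase _ _ (Finset.mem_univ ω₀), h0] at hdeg
  have h8 : 8 ∣ ∑ ω ∈ Finset.univ.erase ω₀, Nat.card (MulAction.orbit C ω.out) :=
    Finset.dvd_sum fun ω hω => by
      obtain ⟨d, hd, -⟩ := key t ht ht1 ω.out (hbase ω (Finset.ne_of_mem_erase hω))
      exact ⟨d, hd⟩
  have hMi := M.card_mul_index
  have h3i : 3 ∣ M.index :=
    ((Nat.Prime.dvd_mul Nat.prime_three).1 (hMi ▸ h3)).resolve_left hM3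
  have h9i : ¬ 9 ∣ M.index := fun e => h9 (hMi ▸ e.mul_left _)
  have h33 : M.index = 33 := by
    obtain ⟨s, hs⟩ := h8
    rw [hs] at hdeg
    have : s < 6 := by omega
    interval_cases s <;> omega
  -- the cores fix every point
  have hK : ∀ s ∈ (P : Subgroup G), s ≠ 1 → oC s = ⊥ := by
    intro s hs hs1
    rw [eq_bot_iff, ← hcore, normalCore_eq_ker]
    intro y hy
    refine MonoidHom.mem_ker.2 (Equiv.ext fun x => ?_)
    show y • x = x
    rcases eq_or_ne x ((1 : G) : G ⧸ M) with rfl | hx
    · exact QuotientGroup.eq.2 (by simpa using hC s hs hs1 (oC_le s hy))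
    obtain ⟨d, hd, hdK, hd1⟩ := key s hs hs1 x hx
    refine hd1 ?_ y hy
    have hdlt : 8 * d < 33 := by
      rw [← hd, ← h33, index_eq_card]
      refine lt_of_le_of_ne (Nat.card_le_card_of_injective (Subtype.val) Subtype.val_injective) fun e => ?_
      have hbij := (Nat.bijective_iff_injective_and_card (Subtype.val :
        MulAction.orbit (centralizer ({s} : Set G)) x → G ⧸ M)).2 ⟨Subtype.val_injective, e⟩
      obtain ⟨⟨z, c, hc⟩, hz⟩ := hbij.2 ((1 : G) : G ⧸ M)
      change z = _ at hz
      subst hz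
      refine hx ?_
      change c • x = _ at hc
      have h' : x = c⁻¹ • ((1 : G) : G ⧸ M) := by rw [← hc, inv_smul_smul]
      rw [h']
      exact QuotientGroup.eq.2 (by simpa using hC s hs hs1 c.2)
    have hKodd := odd_oC s
    have hd3 : ¬ 3 ∣ d := fun e => hM3 (e.trans (hdK.trans (card_dvd_of_le ((oC_le s).trans (hC s hs hs1)))))
    have hdodd : Odd d := Odd.of_dvd_nat hKodd hdK
    have : d < 5 := by omega
    interval_cases d
    · exact absurd hdodd (by decide)
    · rfl
    · exact absurd hdodd (by decide)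
    · exact absurd (dvd_refl 3) hd3
    · exact absurd hdodd (by decide)
  have hMeq := hMN hK
  have hCP : ∀ s ∈ (P : Subgroup G), s ≠ 1 → centralizer ({s} : Set G) ≤ (P : Subgroup G) := by
    intro s hs hs1 x hx
    have := Fintype.ofFinite G
    obtain ⟨f, hf, hiff, -⟩ := h.split hs hs1
    set v := f ⟨x, hx⟩
    have hvC : (v : G) ∈ centralizer ({s} : Set G) :=
      mem_centralizer_singleton_iff.2 (h.comm v.2 hs)
    have hm : x * (v : G)⁻¹ ∈ oC s :=
      (hiff ⟨_, mul_mem hx (inv_mem hvC)⟩).1 (by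
        rw [show (⟨_, mul_mem hx (inv_mem hvC)⟩ : centralizer ({s} : Set G)) =
          ⟨x, hx⟩ * ⟨v, hvC⟩⁻¹ from rfl, map_mul, map_inv, hf ⟨v, hvC⟩ v.2]
        exact mul_inv_cancel v)
    rw [hK s hs hs1, mem_bot, mul_inv_eq_one] at hm
    rw [hm]; exact v.2
  -- the normaliser has order 56
  set φ := (P : Subgroup G).normalizerMonoidHom
  have h56 : Nat.card M = 56 := by
    rw [hMeq]
    let Y := {y : G // y ∈ (P : Subgroup G) ∧ y ≠ 1}
    let _ : MulAction (normalizer ((P : Subgroup G) : Set G)) Y :=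
      { smul := fun n y => ⟨(n : G) * y * (n : G)⁻¹, (mem_normalizer_iff.1 n.2 _).1 y.2.1,
          fun e => y.2.2 (conj_eq_one_iff.1 e)⟩
        one_smul := fun y => Subtype.ext (by
          show ((1 : normalizer ((P : Subgroup G) : Set G)) : G) * y * _ = _
          simp)
        mul_smul := fun a b y => Subtype.ext (by
          show ((a * b : normalizer ((P : Subgroup G) : Set G)) : G) * y * _ = _
          rw [Subgroup.coe_mul]
          show _ = (a : G) * ((b : G) * y * (b : G)⁻¹) * (a : G)⁻¹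
          group) }
    let y₀ : Y := ⟨t, ht, ht1⟩
    have h1 := (MulAction.stabilizer (normalizer ((P : Subgroup G) : Set G)) y₀).card_mul_index
    rw [MulAction.index_stabilizer] at h1
    have horb : MulAction.orbit (normalizer ((P : Subgroup G) : Set G)) y₀ = Set.univ := by
      refine Set.eq_univ_of_forall fun y => ?_
      obtain ⟨n, hn, hn'⟩ := h.2.2.2 t ht ht1 y y.2.1 y.2.2
      exact ⟨⟨n, hn⟩, Subtype.ext hn'⟩
    have hY : Nat.card Y = 7 := by
      change Nat.card {y : G | y ∈ (P : Subgroup G) ∧ y ≠ 1} = 7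
      rw [show {y : G | y ∈ (P : Subgroup G) ∧ y ≠ 1} = ((P : Subgroup G) : Set G) \ {1} from rfl,
        Nat.card_coe_set_eq, Set.ncard_sdiff (Set.singleton_subset_iff.2 (one_mem _)),
        Set.ncard_singleton, ← Nat.card_coe_set_eq,
        show Nat.card ((P : Subgroup G) : Set G) = Nat.card (P : Subgroup G) from rfl, h.1]
    have hst : Nat.card (MulAction.stabilizer (normalizer ((P : Subgroup G) : Set G)) y₀) = 8 := by
      rw [← h.1]
      refine Nat.card_congr
        { toFun := fun n => ⟨((n : normalizer ((P : Subgroup G) : Set G)) : G), hCP t ht ht1 ?_⟩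
          invFun := fun p => ⟨⟨p, le_normalizer p.2⟩, Subtype.ext (mul_inv_eq_iff_eq_mul.2 (h.comm p.2 ht))⟩
          left_inv := fun _ => rfl
          right_inv := fun _ => rfl }
      have e := congrArg Subtype.val n.2
      exact mem_centralizer_singleton_iff.2 (mul_inv_eq_iff_eq_mul.1 e)
    rw [horb, Set.ncard_univ, hY, hst] at h1
    omega
  rw [h56, h33] at hMi
  exact false_of_1848 h hMi.symm hCP

/-- `m = 24`, by induction on the order. -/
theorem hall_twentyFour_aux : ∀ (n : ℕ) (G : Type u) [Group G] [Finite G], Nat.card G = n →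
    24 ∣ Nat.card G → (24 : ℕ).Coprime (Nat.card G / 24) → ∃ H : Subgroup G, Nat.card H = 24 := by
  intro n
  induction n using Nat.strong_induction_on with
  | _ n ih =>
    intro G _ _ hn hdvd hcop
    have : Fact (Nat.Prime 2) := ⟨Nat.prime_two⟩
    obtain ⟨P⟩ := (inferInstance : Nonempty (Sylow 2 G))
    have hP : Nat.card (P : Subgroup G) = 2 ^ 3 :=
      card_sylow_two P (t := 3) (c := 3) (by norm_num) (by decide) hdvd hcop
    rcases local_cases P (Or.inr (by rw [hP]; norm_num)) with h | ⟨R, -, -, hX, h⟩ | h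
    · exact hall_of_solvable_top hdvd hcop h
    · rw [hP] at h
      exact hall_of_solvable hdvd hcop _ hX h
    have h8 := h.1
    have h3 : 3 ∣ Nat.card G := (show (3 : ℕ) ∣ 24 by norm_num).trans hdvd
    have h9 : ¬ 9 ∣ Nat.card G := fun e => by
      obtain ⟨k, hk⟩ := hdvd
      rw [hk, Nat.mul_div_cancel_left _ (by norm_num)] at hcop
      have h3k : 3 ∣ k := by
        rw [hk] at e
        omega
      exact absurd (Nat.eq_one_of_dvd_coprimes hcop (by norm_num) h3k) (by norm_num)
    by_cases hex : ∃ M : Subgroup G, M ≠ ⊤ ∧ (P : Subgroup G) ≤ M ∧ 3 ∣ Nat.card M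
    · obtain ⟨M, hM, hPM, hM3⟩ := hex
      have h24 : 24 ∣ Nat.card M := Nat.Coprime.mul_dvd_of_dvd_of_dvd (m := 8) (n := 3)
        (by norm_num) (h8 ▸ card_dvd_of_le hPM) hM3
      have hlt : Nat.card M < n := hn ▸ lt_of_le_of_ne (card_le_card_group M)
        (fun e => hM (eq_top_of_card_eq M e))
      obtain ⟨H, hH⟩ := ih _ hlt M rfl h24 (subgroup_hyps M hdvd hcop h24)
      exact ⟨H.map M.subtype, by rw [card_map_of_injective M.subtype_injective, hH]⟩
    push Not at hex
    by_cases hsimp : ∃ N : Subgroup G, N.Normal ∧ N ≠ ⊥ ∧ N ≠ ⊤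
    · obtain ⟨N, hN, hb, ht⟩ := hsimp
      by_cases hPN : ∃ x ∈ (P : Subgroup G), x ≠ 1 ∧ x ∈ N
      · -- `P ≤ N`
        exfalso
        obtain ⟨x, hx, hx1, hxN⟩ := hPN
        have hle : (P : Subgroup G) ≤ N := fun y hy => by
          rcases eq_or_ne y 1 with rfl | hy1
          · exact one_mem N
          obtain ⟨m, -, rfl⟩ := h.2.2.2 x hx hx1 y hy hy1
          exact hN.conj_mem x hxN m
        have hf := Sylow.normalizer_sup_eq_top (P.subtype hle)
        rw [show ((P.subtype hle : Sylow 2 N) : Subgroup N).map N.subtype = (P : Subgroup G) from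
          map_subgroupOf_eq_of_le hle] at hf
        set R := normalizer ((P : Subgroup G) : Set G)
        have hd : Nat.card G ∣ Nat.card R * Nat.card N := by
          have h1 := Subgroup.relIndex_sup_right R N
          rw [hf, relIndex_top_right] at h1
          have h2 := N.card_mul_index
          have h3' : N.relIndex R ∣ Nat.card R := Dvd.intro_left _ (N.subgroupOf R).card_mul_index
          rw [← h2, h1, mul_comm (Nat.card R)]
          exact Nat.mul_dvd_mul_left _ h3'
        rcases (Nat.Prime.dvd_mul Nat.prime_three).1 (h3.trans hd) with e | e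
        · exact h.2.1 e
        · exact hex N ht hle e
      · push Not at hPN
        have hodd : Odd (Nat.card N) := by
          rw [← Nat.not_even_iff_odd]
          intro he
          obtain ⟨⟨x, hxN⟩, hx2⟩ := exists_prime_orderOf_dvd_card' (G := N) 2 he.two_dvd
          rw [orderOf_mk] at hx2
          obtain ⟨Q, hQ⟩ := (IsPGroup.of_card (n := 1) (by rw [Nat.card_zpowers, hx2, pow_one]) :
            IsPGroup 2 (zpowers x)).exists_le_sylow
          obtain ⟨c, hc⟩ := MulAction.exists_smul_eq G Q P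
          have hcx : c * x * c⁻¹ ∈ (P : Subgroup G) := by
            rw [← hc, Sylow.coe_subgroup_smul]
            exact ⟨x, hQ (mem_zpowers x), by simp⟩
          refine hPN _ hcx (fun e => ?_) (hN.conj_mem x hxN c)
          rw [conj_eq_one_iff.1 e, orderOf_one] at hx2; omega
        by_cases h3N : 3 ∣ Nat.card N
        · have hsolv : Group.IsSolvable ((P : Subgroup G) ⊔ N : Subgroup G) := by
            refine solvable_ext (N.subgroupOf ((P : Subgroup G) ⊔ N)) ?_ ?_
            · exact solvable_odd (by rwa [Nat.card_congr (subgroupOfEquivOfLe le_sup_right).toEquiv])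
            · have hc := card_sup_of_coprime' (P : Subgroup G) N hodd hP
              have hi := (N.subgroupOf ((P : Subgroup G) ⊔ N)).card_mul_index
              rw [Nat.card_congr (subgroupOfEquivOfLe le_sup_right).toEquiv, hc,
                mul_comm (Nat.card (P : Subgroup G))] at hi
              have hq := Nat.eq_of_mul_eq_mul_left Nat.card_pos hi
              rw [index_eq_card, hP] at hq
              have := (IsPGroup.of_card hq).isNilpotent
              infer_instance
          refine hall_of_solvable hdvd hcop _ hsolv ?_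
          rw [card_sup_of_coprime' (P : Subgroup G) N hodd hP]
          show 8 * 3 ∣ _
          exact Nat.mul_dvd_mul (dvd_of_eq h8.symm) h3N
        · have hNm : (Nat.card N).Coprime 24 := by
            rw [show (24 : ℕ) = 2 ^ 3 * 3 by norm_num]
            exact Nat.Coprime.mul_right ((Nat.coprime_two_right.2 hodd).pow_right 3)
              ((Nat.Prime.coprime_iff_not_dvd Nat.prime_three).2 h3N).symm
          obtain ⟨hq1, hq2⟩ := quotient_hyps N hNm hdvd hcop
          have hlt : Nat.card (G ⧸ N) < n := by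
            have h1 := N.card_mul_index
            rw [index_eq_card] at h1
            have h2 : 1 < Nat.card N := N.one_lt_card_iff_ne_bot.2 hb
            rw [← hn, ← h1]
            exact lt_mul_left Nat.card_pos h2
          exact hall_of_quotient N hNm (ih _ hlt (G ⧸ N) rfl hq1 hq2)
    · push Not at hsimp
      have : Nontrivial G := Finite.one_lt_card_iff_nontrivial.1 (by
        obtain ⟨k, hk⟩ := hdvd
        have := Nat.card_pos (α := G)
        omega)
      have : IsSimpleGroup G :=
        ⟨fun N hN => or_iff_not_imp_left.2 fun hb => hsimp N hN hb⟩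
      exact (false_of_simple_seven h h3 h9 fun M hM hPM => hex M hM hPM).elim
where
  card_sup_of_coprime' {G : Type u} [Group G] [Finite G] (A N : Subgroup G) [N.Normal]
      (hodd : Odd (Nat.card N)) (hA : Nat.card A = 2 ^ 3) :
      Nat.card (A ⊔ N : Subgroup G) = Nat.card A * Nat.card N :=
    CfsgLib.Core.card_sup_of_coprime A N (by rw [normalizer_eq_top]; exact le_top)
      (by rw [hA]; exact (Nat.coprime_two_left.2 hodd).pow_left 3)

theorem hall_twentyFour (hdvd : 24 ∣ Nat.card G) (hcop : (24 : ℕ).Coprime (Nat.card G / 24)) :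
    ∃ H : Subgroup G, Nat.card H = 24 :=
  hall_twentyFour_aux _ G rfl hdvd hcop

end CfsgLib.HallNumber
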